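import Mathlib

/-!
# Implementing automorphisms of groups of symplectic type inside the group algebra

`A` is a finite group with a central involution `z` containing all commutators and squares,
`H` acts on `A` fixing `z`.  A system consists of subgroups `N ≤ B` of `A` and an idempotent `f`
of `ℂ[A]` on which `N` acts by scalars, `z` by `-1`.  An implementation is a multiplicative map
`τ` from `T ≤ H` into the span of `B f` inducing the given action on `B`.
-/

set_option autoImplicit false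

namespace CfsgLib.OddExtend

universe u v

variable {A : Type u} [Group A] [Finite A] {H : Type v} [Group H] [Finite H]

/-- The group element `a` inside the group algebra. -/
noncomputable def o (a : A) : MonoidAlgebra ℂ A := MonoidAlgebra.of ℂ A a

omit [Finite A] in
theorem o_mul (a b : A) : o (a * b) = o a * o b := map_mul _ a b

omit [Finite A] in
theorem o_one : o (1 : A) = 1 := map_one _

/-- Ambient data. -/
structure Ctx (act : H →* MulAut A) (z : A) : Prop where
  zsq : z * z = 1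
  zcomm : ∀ a : A, z * a = a * z
  zfix : ∀ h : H, act h z = z
  comm : ∀ a b : A, a * b = b * a ∨ a * b = z * (b * a)
  sq : ∀ a : A, a * a = 1 ∨ a * a = z

/-- The action of `h` on the group algebra. -/
noncomputable def sig (act : H →* MulAut A) (h : H) :
    MonoidAlgebra ℂ A ≃ₐ[ℂ] MonoidAlgebra ℂ A := MonoidAlgebra.domCongrAut (act h)

omit [Finite A] [Finite H] in
theorem sig_o (act : H →* MulAut A) (h : H) (a : A) : sig act h (o a) = o (act h a) := by
  simp [sig, o, MonoidAlgebra.of_apply]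

omit [Finite A] [Finite H] in
theorem sig_mul (act : H →* MulAut A) (g h : H) (x : MonoidAlgebra ℂ A) :
    sig act (g * h) x = sig act g (sig act h x) := by
  simp only [sig, map_mul]; rfl

/-- The linear span of `B f`. -/
noncomputable def sp (B : Subgroup A) (f : MonoidAlgebra ℂ A) :
    Submodule ℂ (MonoidAlgebra ℂ A) :=
  Submodule.span ℂ ((fun b => o b * f) '' (B : Set A))

/-- Systems. -/
structure Sys (act : H →* MulAut A) (z : A) (T K : Subgroup H) (B N : Subgroup A) (ε : A → ℂ)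
    (f : MonoidAlgebra ℂ A) : Prop where
  ctx : Ctx act z
  two : IsPGroup 2 T
  odd : Odd (Nat.card K)
  norm : ∀ t ∈ T, ∀ k ∈ K, t * k * t⁻¹ ∈ K
  idem : f * f = f
  ne : f ≠ 0
  comm : ∀ b ∈ B, o b * f = f * o b
  zmem : z ∈ N
  le : N ≤ B
  eps : ∀ a ∈ N, o a * f = ε a • f
  epsz : ε z = -1
  nondeg : ∀ b ∈ B, (∀ c ∈ B, b * c = c * b) → b ∈ N
  fsig : ∀ h : H, h ∈ T ∨ h ∈ K → sig act h f = f
  binv : ∀ h : H, h ∈ T ∨ h ∈ K → ∀ b ∈ B, act h b ∈ B
  ninv : ∀ h : H, h ∈ T ∨ h ∈ K → ∀ a ∈ N, act h a ∈ N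
  fix : ∀ b ∈ B, (∀ k ∈ K, b⁻¹ * act k b ∈ N) → b ∈ N

/-- Implementations. -/
def Impl (act : H →* MulAut A) (T : Subgroup H) (B : Subgroup A) (f : MonoidAlgebra ℂ A) : Prop :=
  ∃ τ : H → MonoidAlgebra ℂ A, τ 1 = f ∧ (∀ t ∈ T, ∀ u ∈ T, τ (t * u) = τ t * τ u) ∧
    (∀ t ∈ T, τ t ∈ sp B f) ∧ ∀ t ∈ T, ∀ b ∈ B, τ t * o b = o (act t b) * τ t

section Span

variable {B B₁ B₂ : Subgroup A} {f : MonoidAlgebra ℂ A}

omit [Finite A] in
theorem mem_sp {b : A} (hb : b ∈ B) : o b * f ∈ sp B f :=
  Submodule.subset_span ⟨b, hb, rfl⟩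

omit [Finite A] in
theorem self_mem_sp : f ∈ sp B f := by
  simpa [o_one] using mem_sp (f := f) B.one_mem

omit [Finite A] in
theorem sp_mono (h : B₁ ≤ B₂) : sp B₁ f ≤ sp B₂ f :=
  Submodule.span_mono (Set.image_mono h)

omit [Finite A] in
theorem o_mul_mem_sp {b : A} (hb : b ∈ B) {x : MonoidAlgebra ℂ A} (hx : x ∈ sp B f) :
    o b * x ∈ sp B f := by
  induction hx using Submodule.span_induction with
  | mem y hy =>
    obtain ⟨c, hc, rfl⟩ := hy
    rw [← mul_assoc, ← o_mul]
    exact mem_sp (B.mul_mem hb hc)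
  | zero => simp
  | add x y _ _ hx hy => rw [mul_add]; exact add_mem hx hy
  | smul a x _ hx => rw [mul_smul_comm]; exact Submodule.smul_mem _ a hx

omit [Finite A] in
theorem mul_o_mem_sp (hf : ∀ b ∈ B, o b * f = f * o b) {b : A} (hb : b ∈ B)
    {x : MonoidAlgebra ℂ A} (hx : x ∈ sp B f) : x * o b ∈ sp B f := by
  induction hx using Submodule.span_induction with
  | mem y hy =>
    obtain ⟨c, hc, rfl⟩ := hy
    rw [mul_assoc, ← hf b hb, ← mul_assoc, ← o_mul]
    exact mem_sp (B.mul_mem hc hb)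
  | zero => simp
  | add x y _ _ hx hy => rw [add_mul]; exact add_mem hx hy
  | smul a x _ hx => rw [smul_mul_assoc]; exact Submodule.smul_mem _ a hx

omit [Finite A] in
theorem mul_idem (hi : f * f = f) {x : MonoidAlgebra ℂ A} (hx : x ∈ sp B f) : x * f = x := by
  induction hx using Submodule.span_induction with
  | mem y hy => obtain ⟨c, _, rfl⟩ := hy; rw [mul_assoc, hi]
  | zero => simp
  | add x y _ _ hx hy => rw [add_mul, hx, hy]
  | smul a x _ hx => rw [smul_mul_assoc, hx]

omit [Finite A] in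
theorem mul_mem_sp (hf : ∀ b ∈ B, o b * f = f * o b) (hi : f * f = f) {x y : MonoidAlgebra ℂ A}
    (hx : x ∈ sp B f) (hy : y ∈ sp B f) : x * y ∈ sp B f := by
  induction hy using Submodule.span_induction with
  | mem z hz =>
    obtain ⟨c, hc, rfl⟩ := hz
    show x * (o c * f) ∈ sp B f
    rw [hf c hc, ← mul_assoc, mul_idem hi hx]
    exact mul_o_mem_sp hf hc hx
  | zero => simp
  | add a b _ _ ha hb => rw [mul_add]; exact add_mem ha hb
  | smul a z _ hz => rw [mul_smul_comm]; exact Submodule.smul_mem _ a hz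

omit [Finite A] in
theorem idem_mul (hf : ∀ b ∈ B, o b * f = f * o b) (hi : f * f = f) {x : MonoidAlgebra ℂ A}
    (hx : x ∈ sp B f) : f * x = x := by
  induction hx using Submodule.span_induction with
  | mem y hy => obtain ⟨c, hc, rfl⟩ := hy; rw [← mul_assoc, ← hf c hc, mul_assoc, hi]
  | zero => simp
  | add x y _ _ hx hy => rw [mul_add, hx, hy]
  | smul a x _ hx => rw [mul_smul_comm, hx]

omit [Finite A] in
/-- An element commuting with the generators commutes with the span. -/
theorem commute_sp {y : MonoidAlgebra ℂ A} (hy : ∀ b ∈ B, y * o b = o b * y)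
    (hyf : y * f = f * y) {x : MonoidAlgebra ℂ A} (hx : x ∈ sp B f) : y * x = x * y := by
  induction hx using Submodule.span_induction with
  | mem z hz => obtain ⟨c, hc, rfl⟩ := hz; rw [← mul_assoc, hy c hc, mul_assoc, hyf, mul_assoc]
  | zero => simp
  | add a b _ _ ha hb => rw [mul_add, add_mul, ha, hb]
  | smul a z _ hz => rw [mul_smul_comm, smul_mul_assoc, hz]

omit [Finite A] in
/-- Spans of commuting subgroups commute. -/
theorem sp_commute (h₁ : ∀ b ∈ B₁, o b * f = f * o b) (h₂ : ∀ b ∈ B₂, o b * f = f * o b)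
    (hc : ∀ a ∈ B₁, ∀ b ∈ B₂, a * b = b * a) {x y : MonoidAlgebra ℂ A}
    (hx : x ∈ sp B₁ f) (hy : y ∈ sp B₂ f) : x * y = y * x := by
  refine (commute_sp (y := y) (fun a ha => ?_) ?_ hx).symm
  · exact (commute_sp (y := o a) (fun b hb => by rw [← o_mul, ← o_mul, hc a ha b hb]) (h₁ a ha) hy).symm
  · exact (commute_sp (y := f) (fun b hb => (h₂ b hb).symm) rfl hy).symm

omit [Finite A] in
/-- Two elements intertwining `g` agree on the span. -/
theorem intertwine_sp (act : H →* MulAut A) {h : H} {S : MonoidAlgebra ℂ A}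
    (hS : ∀ b ∈ B, S * o b = o (act h b) * S) (hSf : S * f = sig act h f * S)
    {x : MonoidAlgebra ℂ A} (hx : x ∈ sp B f) : S * x = sig act h x * S := by
  induction hx using Submodule.span_induction with
  | mem z hz =>
    obtain ⟨c, hc, rfl⟩ := hz
    rw [map_mul, sig_o, ← mul_assoc, hS c hc, mul_assoc, hSf, mul_assoc]
  | zero => simp
  | add a b _ _ ha hb => rw [mul_add, map_add, add_mul, ha, hb]
  | smul a z _ hz => rw [mul_smul_comm, map_smul, smul_mul_assoc, hz]

omit [Finite A] in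
theorem sig_mem_sp (act : H →* MulAut A) {h : H} (hB : ∀ b ∈ B₁, act h b ∈ B₂)
    (hf : sig act h f = f) {x : MonoidAlgebra ℂ A} (hx : x ∈ sp B₁ f) :
    sig act h x ∈ sp B₂ f := by
  induction hx using Submodule.span_induction with
  | mem z hz =>
    obtain ⟨c, hc, rfl⟩ := hz
    rw [map_mul, sig_o, hf]
    exact mem_sp (hB c hc)
  | zero => simp
  | add a b _ _ ha hb => rw [map_add]; exact add_mem ha hb
  | smul a z _ hz => rw [map_smul]; exact Submodule.smul_mem _ a hz

end Span

namespace Sys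

variable {act : H →* MulAut A} {z : A} {T K : Subgroup H} {B N : Subgroup A} {ε : A → ℂ}
  {f : MonoidAlgebra ℂ A}

theorem smul_f_inj (S : Sys act z T K B N ε f) {a b : ℂ} (h : a • f = b • f) : a = b :=
  smul_left_injective ℂ S.ne h

theorem eps_mul (S : Sys act z T K B N ε f) {a b : A} (ha : a ∈ N) (hb : b ∈ N) :
    ε (a * b) = ε a * ε b := by
  apply S.smul_f_inj
  rw [← S.eps _ (N.mul_mem ha hb), o_mul, mul_assoc, S.eps b hb, mul_smul_comm, S.eps a ha,
    smul_smul, mul_comm]

theorem eps_one (S : Sys act z T K B N ε f) : ε 1 = 1 := by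
  apply S.smul_f_inj
  rw [← S.eps _ N.one_mem, o_one, one_mul, one_smul]

theorem eps_inv (S : Sys act z T K B N ε f) {h : H} (hh : h ∈ T ∨ h ∈ K) {a : A} (ha : a ∈ N) :
    ε (act h a) = ε a := by
  apply S.smul_f_inj
  rw [← S.eps _ (S.ninv h hh a ha), ← sig_o act h a]
  conv_lhs => rw [← S.fsig h hh]
  rw [← map_mul, S.eps a ha, map_smul, S.fsig h hh]

theorem eps_sq (S : Sys act z T K B N ε f) {a : A} (ha : a ∈ N) : ε a * ε a = 1 ∨ ε a * ε a = -1 := by
  rw [← S.eps_mul ha ha]
  rcases S.ctx.sq a with h | h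
  · exact Or.inl (by rw [h, S.eps_one])
  · exact Or.inr (by rw [h, S.epsz])

theorem z_mul_f (S : Sys act z T K B N ε f) : o z * f = -f := by
  rw [S.eps z S.zmem, S.epsz, neg_one_smul]

/-- Noncommuting elements anticommute on `f`. -/
theorem anti (S : Sys act z T K B N ε f) {a b : A} (ha : a ∈ B) (hb : b ∈ B)
    (h : a * b ≠ b * a) : o a * o b * f = -(o b * o a * f) := by
  have h' := (S.ctx.comm a b).resolve_left h
  have hf : o (b * a) * f = f * o (b * a) := S.comm _ (B.mul_mem hb ha)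
  rw [← o_mul, ← o_mul, h', o_mul, mul_assoc, hf, ← mul_assoc, S.z_mul_f, neg_mul]

/-- Elements of `N` are central in `B`. -/
theorem n_central (S : Sys act z T K B N ε f) {a b : A} (ha : a ∈ N) (hb : b ∈ B) :
    a * b = b * a := by
  by_contra h
  have h1 := S.anti (S.le ha) hb h
  have h2 : o a * o b * f = o b * o a * f := by
    rw [mul_assoc (o b), S.eps a ha, mul_assoc, S.comm b hb, ← mul_assoc, S.eps a ha,
      smul_mul_assoc, ← S.comm b hb, mul_smul_comm]
  rw [h2, eq_neg_iff_add_eq_zero, ← two_smul ℂ] at h1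
  have h3 : o b * o a * f = 0 := (smul_eq_zero.1 h1).resolve_left two_ne_zero
  rw [mul_assoc, S.eps a ha, mul_smul_comm, smul_eq_zero] at h3
  rcases h3 with h3 | h3
  · rcases S.eps_sq ha with h4 | h4 <;> simp [h3] at h4
  · refine S.ne ?_
    calc f = o (b⁻¹ * b) * f := by rw [inv_mul_cancel, o_one, one_mul]
      _ = 0 := by rw [o_mul, mul_assoc, h3, mul_zero]

/-- Conjugation average over `B`. -/
noncomputable def avg (B : Subgroup A) (x : MonoidAlgebra ℂ A) : MonoidAlgebra ℂ A :=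
  ∑ᶠ X : B, o (X : A) * x * o ((X : A)⁻¹)

theorem avg_eq (B : Subgroup A) [Fintype B] (x : MonoidAlgebra ℂ A) :
    avg B x = ∑ X : B, o (X : A) * x * o ((X : A)⁻¹) := finsum_eq_sum_of_fintype _

theorem avg_add (B : Subgroup A) (x y : MonoidAlgebra ℂ A) : avg B (x + y) = avg B x + avg B y := by
  haveI := Fintype.ofFinite B
  simp only [avg_eq, mul_add, add_mul, Finset.sum_add_distrib]

theorem avg_smul (B : Subgroup A) (c : ℂ) (x : MonoidAlgebra ℂ A) :
    avg B (c • x) = c • avg B x := by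
  haveI := Fintype.ofFinite B
  simp only [avg_eq, mul_smul_comm, smul_mul_assoc, Finset.smul_sum]

theorem avg_of_commute (B : Subgroup A) {x : MonoidAlgebra ℂ A}
    (hx : ∀ b ∈ B, o b * x = x * o b) : avg B x = (Nat.card B : ℂ) • x := by
  haveI := Fintype.ofFinite B
  have h : ∀ X : B, o (X : A) * x * o ((X : A)⁻¹) = x := fun X => by
    rw [hx X X.2, mul_assoc, ← o_mul, mul_inv_cancel, o_one, mul_one]
  simp only [avg_eq, h]
  rw [Finset.sum_const, Finset.card_univ, Nat.card_eq_fintype_card, Nat.cast_smul_eq_nsmul]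

theorem avg_of_mem (S : Sys act z T K B N ε f) {b : A} (hb : b ∈ N) :
    avg B (o b * f) = ((Nat.card B : ℂ) * ε b) • f := by
  rw [S.eps b hb, avg_smul, avg_of_commute B S.comm, smul_smul, mul_comm]

theorem avg_of_not_mem (S : Sys act z T K B N ε f) {b : A} (hb : b ∈ B) (hbN : b ∉ N) :
    avg B (o b * f) = 0 := by
  haveI := Fintype.ofFinite B
  obtain ⟨c, hc, hne⟩ : ∃ c ∈ B, b * c ≠ c * b := by
    by_contra h
    push Not at h
    exact hbN (S.nondeg b hb h)
  set g : B → MonoidAlgebra ℂ A := fun X => o (X : A) * (o b * f) * o ((X : A)⁻¹) with hg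
  have key : ∀ X : B, g (X * ⟨c, hc⟩) = -g X := by
    intro X
    have h1 : o c * (o b * f) * o c⁻¹ = -(o b * f) := by
      rw [← mul_assoc (o c), S.anti hc hb (fun h => hne h.symm), neg_mul, mul_assoc (o b * o c),
        ← S.comm _ (B.inv_mem hc), ← mul_assoc (o b * o c), mul_assoc (o b), ← o_mul c,
        mul_inv_cancel, o_one, mul_one]
    simp only [hg, Subgroup.coe_mul, mul_inv_rev, o_mul]
    calc o (X : A) * o c * (o b * f) * (o c⁻¹ * o (X : A)⁻¹)
        = o (X : A) * (o c * (o b * f) * o c⁻¹) * o (X : A)⁻¹ := by simp only [mul_assoc]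
      _ = _ := by rw [h1, mul_neg, neg_mul]
  have h2 : ∑ X : B, g X = -∑ X : B, g X := by
    conv_lhs => rw [← Equiv.sum_comp (Equiv.mulRight (⟨c, hc⟩ : B)) g]
    rw [← Finset.sum_neg_distrib]
    exact Finset.sum_congr rfl fun X _ => key X
  rw [eq_neg_iff_add_eq_zero, ← two_smul ℂ] at h2
  rw [avg_eq]
  exact (smul_eq_zero.1 h2).resolve_left two_ne_zero

/-- A central element of the span is a scalar. -/
theorem scalar (S : Sys act z T K B N ε f) {x : MonoidAlgebra ℂ A} (hx : x ∈ sp B f)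
    (hc : ∀ b ∈ B, o b * x = x * o b) : ∃ c : ℂ, x = c • f := by
  have key : ∀ y ∈ sp B f, ∃ c : ℂ, avg B y = c • f := by
    intro y hy
    induction hy using Submodule.span_induction with
    | mem w hw =>
      obtain ⟨b, hb, rfl⟩ := hw
      by_cases h : b ∈ N
      · exact ⟨_, S.avg_of_mem h⟩
      · exact ⟨0, by simp [S.avg_of_not_mem hb h]⟩
    | zero => exact ⟨0, by simp [avg]⟩
    | add a b _ _ ha hb =>
      obtain ⟨c₁, h₁⟩ := ha
      obtain ⟨c₂, h₂⟩ := hb
      exact ⟨c₁ + c₂, by rw [avg_add, h₁, h₂, add_smul]⟩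
    | smul a y _ hy =>
      obtain ⟨c, h⟩ := hy
      exact ⟨a * c, by rw [avg_smul, h, smul_smul]⟩
  obtain ⟨c, h⟩ := key x hx
  rw [avg_of_commute B hc] at h
  have h0 : (Nat.card B : ℂ) ≠ 0 := Nat.cast_ne_zero.2 Nat.card_pos.ne'
  refine ⟨(Nat.card B : ℂ)⁻¹ * c, ?_⟩
  rw [← smul_smul, ← h, smul_smul, inv_mul_cancel₀ h0, one_smul]

end Sys

end CfsgLib.OddExtend
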