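import Cfsg.Agent.Lib.PGroup.OddExtend.Fpf

/-!
# The homogeneous case: `T` acts through a cyclic group
-/

set_option autoImplicit false
set_option maxHeartbeats 1000000

namespace CfsgLib.OddExtend

universe u v

variable {A : Type u} [Group A] [Finite A] {H : Type v} [Group H] [Finite H]
  {act : H →* MulAut A} {z : A}

namespace Sys

variable {T K : Subgroup H} {B N : Subgroup A} {ε : A → ℂ} {f : MonoidAlgebra ℂ A}

/-- The homogeneous case. -/
theorem impl_cyclic (S : Sys act z T K B N ε f) (hBN : ¬ B ≤ N)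
    (hirr : ∀ D : Subgroup A, N ≤ D → D ≤ B →
      (∀ h : H, h ∈ T ∨ h ∈ K → ∀ b ∈ D, act h b ∈ D) → D = N ∨ D = B)
    {U : Subgroup H} (hUK : U ≤ K) (hne : U ≠ K)
    (hcom : ∀ k ∈ K, ∀ l ∈ K, k * l * k⁻¹ * l⁻¹ ∈ U)
    (hUT : ∀ t ∈ T, ∀ u ∈ U, t * u * t⁻¹ ∈ U) (hUt : Triv act B N U)
    (hmax : ∀ V : Subgroup H, U < V → V ≤ K → fixMod act B N V = N)
    (hmin : ∀ R : Subgroup H, R ≤ K → R ≠ K → (∀ k ∈ K, ∀ x ∈ R, k * x * k⁻¹ ∈ R) →
      (∀ t ∈ T, ∀ x ∈ R, t * x * t⁻¹ ∈ R) → Triv act B N R) :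
    Impl act T B f := by
  classical
  haveI hUn : (U.subgroupOf K).Normal := ⟨fun x hx g => by
    rw [Subgroup.mem_subgroupOf] at hx ⊢
    have := U.mul_mem (hcom g g.2 x x.2) hx
    simpa [mul_assoc] using this⟩
  letI : CommGroup (K ⧸ U.subgroupOf K) :=
    { (inferInstance : Group (K ⧸ U.subgroupOf K)) with
      mul_comm := fun x y => by
        obtain ⟨x, rfl⟩ := QuotientGroup.mk'_surjective _ x
        obtain ⟨y, rfl⟩ := QuotientGroup.mk'_surjective _ y
        rw [← map_mul, ← map_mul, QuotientGroup.mk'_apply, QuotientGroup.mk'_apply,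
          QuotientGroup.eq, Subgroup.mem_subgroupOf]
        have := hcom _ (K.inv_mem y.2) _ (K.inv_mem x.2)
        simpa [mul_inv_rev, mul_assoc] using this }
  -- the exponent
  have hidx : (U.subgroupOf K).index ≠ 1 := fun h =>
    hne (le_antisymm hUK (Subgroup.subgroupOf_eq_top.1 (Subgroup.index_eq_one.1 h)))
  obtain ⟨r, hr, hrd⟩ := Nat.exists_prime_and_dvd hidx
  haveI : Fact r.Prime := ⟨hr⟩
  have hrodd : Odd r := S.odd.of_dvd_nat (hrd.trans (Subgroup.index_dvd_card _))
  let W : Subgroup H :=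
    { carrier := {k | k ∈ K ∧ k ^ r ∈ U}
      one_mem' := ⟨K.one_mem, by simp⟩
      mul_mem' := fun {a b} ha hb => ⟨K.mul_mem ha.1 hb.1, by
        have h : ((QuotientGroup.mk' (U.subgroupOf K)) (⟨a, ha.1⟩ * ⟨b, hb.1⟩ : K)) ^ r = 1 := by
          rw [map_mul, mul_pow, ← map_pow, ← map_pow, QuotientGroup.mk'_apply,
            QuotientGroup.mk'_apply, (QuotientGroup.eq_one_iff _).2, (QuotientGroup.eq_one_iff _).2,
            one_mul] <;> rw [Subgroup.mem_subgroupOf]
          · simpa using hb.2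
          · simpa using ha.2
        rw [← map_pow, QuotientGroup.mk'_apply, QuotientGroup.eq_one_iff,
          Subgroup.mem_subgroupOf] at h
        simpa using h⟩
      inv_mem' := fun {a} ha => ⟨K.inv_mem ha.1, by rw [inv_pow]; exact U.inv_mem ha.2⟩ }
  obtain ⟨x₀, hx₀⟩ := exists_prime_orderOf_dvd_card' (G := K ⧸ U.subgroupOf K) r
    (by rwa [← Subgroup.index_eq_card])
  obtain ⟨a, rfl⟩ := QuotientGroup.mk'_surjective _ x₀
  have haW : (a : H) ∈ W := by
    refine ⟨a.2, ?_⟩
    have h := pow_orderOf_eq_one ((QuotientGroup.mk' (U.subgroupOf K)) a)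
    rw [hx₀, ← map_pow, QuotientGroup.mk'_apply, QuotientGroup.eq_one_iff,
      Subgroup.mem_subgroupOf] at h
    simpa using h
  have haU : (a : H) ∉ U := fun h => by
    rw [(show (QuotientGroup.mk' (U.subgroupOf K)) a = 1 from
      (QuotientGroup.eq_one_iff _).2 (Subgroup.mem_subgroupOf.2 h)), orderOf_one] at hx₀
    exact hr.one_lt.ne hx₀
  have hexp : ∀ k ∈ K, k ^ r ∈ U := by
    by_contra hcon
    have hWK : W ≠ K := fun h => hcon fun k hk => (h.ge hk).2
    have htriv : Triv act B N W := by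
      refine hmin W (fun k hk => hk.1) hWK (fun k hk x hx => ?_) (fun t ht x hx => ?_)
      · refine ⟨K.mul_mem (K.mul_mem hk hx.1) (K.inv_mem hk), ?_⟩
        rw [conj_pow]
        have := U.mul_mem (hcom k hk _ (K.pow_mem hx.1 r)) hx.2
        simpa [mul_assoc] using this
      · exact ⟨S.norm t ht x hx.1, by rw [conj_pow]; exact hUT t ht _ hx.2⟩
    have hWle : W ≤ K := fun k hk => hk.1
    have hlt : U < W := lt_of_le_of_ne (fun u hu => ⟨hUK hu, U.pow_mem hu r⟩)
      (fun h => haU (h ▸ haW))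
    have hh := hmax W hlt hWle
    rw [S.fixMod_of_triv hWle htriv] at hh
    exact hBN hh.le
  have hgen : K ≤ U ⊔ Subgroup.zpowers (a : H) :=
    S.le_sup_zpowers hBN hUK hcom hUt hmax hr hrodd hexp a.2 haU
  have hcyc : ∀ y : K ⧸ U.subgroupOf K, y ∈ Subgroup.zpowers (QuotientGroup.mk' (U.subgroupOf K) a) := by
    intro y
    obtain ⟨k, rfl⟩ := QuotientGroup.mk'_surjective _ y
    have hk := hgen k.2
    rw [Subgroup.sup_eq_closure] at hk
    have key : ∀ x ∈ Subgroup.closure ((U : Set H) ∪ (Subgroup.zpowers (a : H) : Set H)),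
        ∃ hx : x ∈ K, QuotientGroup.mk' (U.subgroupOf K) ⟨x, hx⟩ ∈
          Subgroup.zpowers (QuotientGroup.mk' (U.subgroupOf K) a) := by
      intro x hx
      induction hx using Subgroup.closure_induction with
      | mem x hx =>
        rcases hx with hx | hx
        · refine ⟨hUK hx, ?_⟩
          rw [(show QuotientGroup.mk' (U.subgroupOf K) ⟨x, hUK hx⟩ = 1 from
            (QuotientGroup.eq_one_iff _).2 (Subgroup.mem_subgroupOf.2 hx))]
          exact one_mem _
        · obtain ⟨n, rfl⟩ := hx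
          refine ⟨K.zpow_mem a.2 n, ⟨n, ?_⟩⟩
          show _ ^ n = _
          rw [← map_zpow]
          exact congrArg _ (Subtype.ext (by simp))
      | one => exact ⟨K.one_mem, one_mem _⟩
      | mul x y _ _ hx hy =>
        exact ⟨K.mul_mem hx.1 hy.1, by
          have := mul_mem hx.2 hy.2
          rw [← map_mul] at this
          exact this⟩
      | inv x _ hx =>
        exact ⟨K.inv_mem hx.1, by
          have := inv_mem hx.2
          rw [← map_inv] at this
          exact this⟩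
    exact (key k hk).2
  haveI hc : IsCyclic (K ⧸ U.subgroupOf K) := ⟨_, hcyc⟩
  have hcard : Nat.card (K ⧸ U.subgroupOf K) = r := by
    rw [← orderOf_eq_card_of_forall_mem_zpowers hcyc, hx₀]
  haveI : IsCyclic (MulAut (K ⧸ U.subgroupOf K)) := by
    have e := IsCyclic.mulAutMulEquiv (K ⧸ U.subgroupOf K)
    rw [hcard] at e
    exact isCyclic_of_surjective e.symm.toMonoidHom e.symm.surjective
  -- the action of `T` on `K/U`
  let cK : T → MulAut K := fun t =>
    { toFun := fun k => ⟨(t : H) * k * (t : H)⁻¹, S.norm t t.2 k k.2⟩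
      invFun := fun k => ⟨(t : H)⁻¹ * k * t, by simpa using S.norm (t : H)⁻¹ (T.inv_mem t.2) k k.2⟩
      left_inv := fun k => Subtype.ext (by simp [mul_assoc])
      right_inv := fun k => Subtype.ext (by simp [mul_assoc])
      map_mul' := fun k l => Subtype.ext (by simp [mul_assoc]) }
  have hcK : ∀ t : T, (U.subgroupOf K).map (cK t).toMonoidHom = U.subgroupOf K := by
    intro t
    refine le_antisymm ?_ fun k hk => ?_
    · rintro _ ⟨k, hk, rfl⟩
      exact hUT t t.2 _ hk
    · refine ⟨(cK t).symm k, ?_, (cK t).apply_symm_apply k⟩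
      show (t : H)⁻¹ * (k : H) * t ∈ U
      simpa using hUT (t : H)⁻¹ (T.inv_mem t.2) _ hk
  let ψ : T →* MulAut (K ⧸ U.subgroupOf K) :=
    { toFun := fun t => QuotientGroup.congr _ _ (cK t) (hcK t)
      map_one' := MulEquiv.ext fun q => by
        obtain ⟨k, rfl⟩ := QuotientGroup.mk'_surjective _ q
        show QuotientGroup.mk' (U.subgroupOf K) (cK 1 k) = QuotientGroup.mk' _ k
        exact congrArg _ (Subtype.ext (by simp [cK]))
      map_mul' := fun t u => MulEquiv.ext fun q => by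
        obtain ⟨k, rfl⟩ := QuotientGroup.mk'_surjective _ q
        show QuotientGroup.mk' (U.subgroupOf K) (cK (t * u) k) =
          QuotientGroup.mk' _ (cK t (cK u k))
        exact congrArg _ (Subtype.ext (by simp [cK, mul_assoc])) }
  have hker : ∀ tc : T, ψ tc = 1 → ∀ k ∈ K, k⁻¹ * ((tc : H) * k * (tc : H)⁻¹) ∈ U := by
    intro tc htc k hk
    have h1 := DFunLike.congr_fun htc (QuotientGroup.mk' (U.subgroupOf K) ⟨k, hk⟩)
    have h2 : QuotientGroup.mk' (U.subgroupOf K) (cK tc ⟨k, hk⟩) =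
        QuotientGroup.mk' (U.subgroupOf K) ⟨k, hk⟩ := h1
    rw [eq_comm, QuotientGroup.mk'_apply, QuotientGroup.mk'_apply, QuotientGroup.eq,
      Subgroup.mem_subgroupOf] at h2
    exact h2
  let Tc : Subgroup H := ψ.ker.map T.subtype
  have hTcT : Tc ≤ T := Subgroup.map_subtype_le _
  -- trivial modulo `N`
  have hswap : ∀ tc : T, ψ tc = 1 → ∀ k ∈ K, ∀ b ∈ B,
      ∃ n ∈ N, act (tc : H) (act k b) = act k (act (tc : H) b) * n := by
    intro tc htc k hk b hb
    have hu := hker tc htc k hk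
    have hb' : act (tc : H) b ∈ B := S.binv _ (Or.inl tc.2) b hb
    refine ⟨act k ((act (tc : H) b)⁻¹ * act (k⁻¹ * ((tc : H) * k * (tc : H)⁻¹)) (act (tc : H) b)),
      S.ninv k (Or.inr hk) _ (hUt _ hu _ hb'), ?_⟩
    rw [← map_mul (act k), mul_inv_cancel_left]
    simp [map_mul, MulAut.mul_apply]
  have htc0 : ∀ tc : T, ψ tc = 1 → ∀ b ∈ B, b⁻¹ * act (tc : H) b ∈ N := by
    haveI : (N.subgroupOf B).Normal := ⟨fun x hx g => by
      rw [Subgroup.mem_subgroupOf] at hx ⊢
      simp only [Subgroup.coe_mul, Subgroup.coe_inv]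
      rw [← S.n_central hx g.2, mul_inv_cancel_right]
      exact hx⟩
    let D : Subgroup A :=
      { carrier := {b | b ∈ B ∧ ∀ tc : T, ψ tc = 1 → b⁻¹ * act (tc : H) b ∈ N}
        one_mem' := ⟨B.one_mem, fun _ _ => by simp⟩
        mul_mem' := fun {a b} ha hb => ⟨B.mul_mem ha.1 hb.1, fun tc h => by
          have e : (a * b)⁻¹ * act (tc : H) (a * b) =
              (a⁻¹ * act (tc : H) a) * (b⁻¹ * act (tc : H) b) := by
            rw [map_mul, mul_inv_rev]
            calc b⁻¹ * a⁻¹ * (act (tc : H) a * act (tc : H) b)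
                = b⁻¹ * (a⁻¹ * act (tc : H) a) * act (tc : H) b := by simp only [mul_assoc]
              _ = _ := by rw [← S.n_central (ha.2 tc h) (B.inv_mem hb.1), mul_assoc]
          rw [e]
          exact N.mul_mem (ha.2 tc h) (hb.2 tc h)⟩
        inv_mem' := fun {a} ha => ⟨B.inv_mem ha.1, fun tc h => by
          have h2 := S.n_central (N.inv_mem (ha.2 tc h)) ha.1
          have e : a⁻¹⁻¹ * act (tc : H) a⁻¹ = (a⁻¹ * act (tc : H) a)⁻¹ := by
            rw [map_inv, inv_inv]
            calc a * (act (tc : H) a)⁻¹ = (a * (a⁻¹ * act (tc : H) a)⁻¹) * a⁻¹ := by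
                  simp [mul_assoc]
              _ = _ := by rw [← h2, mul_inv_cancel_right]
          rw [e]
          exact N.inv_mem (ha.2 tc h)⟩ }
    have hND : N ≤ D := fun x hx =>
      ⟨S.le hx, fun tc _ => N.mul_mem (N.inv_mem hx) (S.ninv _ (Or.inl tc.2) x hx)⟩
    have hDi : ∀ h : H, h ∈ T ∨ h ∈ K → ∀ b ∈ D, act h b ∈ D := by
      intro h hh b hb
      refine ⟨S.binv h hh b hb.1, fun tc htc => ?_⟩
      rcases hh with ht | hk
      · have h1 : ψ (⟨h, ht⟩⁻¹ * tc * ⟨h, ht⟩) = 1 := by simp [htc]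
        have h2 := hb.2 _ h1
        have h3 := S.ninv h (Or.inl ht) _ h2
        simpa [map_mul, MulAut.mul_apply] using h3
      · obtain ⟨n, hn, e⟩ := hswap tc htc h hk b hb.1
        rw [e, ← mul_assoc, ← map_inv (act h), ← map_mul]
        exact N.mul_mem (S.ninv h (Or.inr hk) _ (hb.2 tc htc)) hn
    rcases hirr D hND (fun b hb => hb.1) hDi with h | h
    · exfalso
      haveI : Fact (Nat.Prime 2) := ⟨Nat.prime_two⟩
      let Q := B ⧸ N.subgroupOf B
      have hQ : IsPGroup 2 Q := fun q => by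
        obtain ⟨b, rfl⟩ := QuotientGroup.mk'_surjective _ q
        refine ⟨1, ?_⟩
        rw [pow_one, ← map_pow, QuotientGroup.mk'_apply, QuotientGroup.eq_one_iff,
          Subgroup.mem_subgroupOf, SubgroupClass.coe_pow, pow_two]
        rcases S.ctx.sq (b : A) with h | h <;> rw [h]
        · exact N.one_mem
        · exact S.zmem
      haveI : Nontrivial Q := QuotientGroup.nontrivial_iff.2 fun h => hBN (Subgroup.subgroupOf_eq_top.1 h)
      let ρ : ψ.ker → (B →* B) := fun tc =>
        { toFun := fun d => ⟨act ((tc : T) : H) d, S.binv _ (Or.inl (tc : T).2) d d.2⟩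
          map_one' := Subtype.ext (map_one _)
          map_mul' := fun x y => Subtype.ext (map_mul _ _ _) }
      have hl : ∀ tc, N.subgroupOf B ≤ ((QuotientGroup.mk' (N.subgroupOf B)).comp (ρ tc)).ker :=
        fun tc x hx => by
          rw [MonoidHom.mem_ker]
          exact (QuotientGroup.eq_one_iff _).2 (Subgroup.mem_subgroupOf.2
            (S.ninv _ (Or.inl (tc : T).2) x (Subgroup.mem_subgroupOf.1 hx)))
      letI : MulAction ψ.ker Q :=
        { smul := fun tc q => QuotientGroup.lift _ _ (hl tc) q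
          one_smul := fun q => by
            obtain ⟨b, rfl⟩ := QuotientGroup.mk'_surjective _ q
            show QuotientGroup.mk' _ (ρ 1 b) = QuotientGroup.mk' _ b
            exact congrArg _ (Subtype.ext (by simp [ρ]))
          mul_smul := fun x y q => by
            obtain ⟨b, rfl⟩ := QuotientGroup.mk'_surjective _ q
            show QuotientGroup.mk' _ (ρ (x * y) b) = QuotientGroup.mk' _ (ρ x (ρ y b))
            exact congrArg _ (Subtype.ext (by simp [ρ, map_mul, MulAut.mul_apply])) }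
      have hfix1 : (1 : Q) ∈ MulAction.fixedPoints ψ.ker Q := fun tc => map_one _
      obtain ⟨n, hn0, hn⟩ := hQ.nontrivial_iff_card.mp inferInstance
      obtain ⟨q, hq, hq1⟩ := (S.two.to_subgroup ψ.ker).exists_fixed_point_of_prime_dvd_card_of_fixed_point
        Q (hn.symm ▸ dvd_pow_self 2 (Nat.pos_iff_ne_zero.1 hn0)) hfix1
      obtain ⟨b, rfl⟩ := QuotientGroup.mk'_surjective _ q
      refine hq1 ((QuotientGroup.eq_one_iff _).2 (Subgroup.mem_subgroupOf.2 ?_)).symm
      rw [← h]
      refine ⟨b.2, fun tc htc => ?_⟩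
      have h1 : QuotientGroup.mk' (N.subgroupOf B) (ρ ⟨tc, htc⟩ b) =
          QuotientGroup.mk' (N.subgroupOf B) b := hq ⟨tc, htc⟩
      rw [eq_comm, QuotientGroup.mk'_apply, QuotientGroup.mk'_apply, QuotientGroup.eq,
        Subgroup.mem_subgroupOf] at h1
      exact h1
    · exact fun tc htc b hb => ((h.ge hb).2 tc htc)
  -- trivial on `B f`
  have hδsq : ∀ h : H, ∀ b ∈ B, b⁻¹ * act h b ∈ N →
      (b⁻¹ * act h b) * (b⁻¹ * act h b) = 1 := by
    intro h b hb hn
    set n := b⁻¹ * act h b with hn'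
    have e : act h b = b * n := by rw [hn', mul_inv_cancel_left]
    have h1 : act h (b * b) = b * b := by
      rcases S.ctx.sq b with hh | hh <;> rw [hh]
      · exact map_one _
      · exact S.ctx.zfix h
    rw [map_mul, e] at h1
    have h2 : b * b * (n * n) = b * b := by
      calc b * b * (n * n) = b * (b * n) * n := by simp only [mul_assoc]
        _ = b * (n * b) * n := by rw [S.n_central hn hb]
        _ = _ := by simpa [mul_assoc] using h1
    exact mul_eq_left.1 h2
  have hδU : ∀ u ∈ U, ∀ b ∈ B, ε (b⁻¹ * act u b) = 1 := by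
    intro u hu b hb
    let g : U →* ℂ :=
      { toFun := fun v => ε (b⁻¹ * act (v : H) b)
        map_one' := by simp [S.eps_one]
        map_mul' := fun v w => by
          have e : b⁻¹ * act ((v : H) * w) b =
              (b⁻¹ * act (v : H) b) * act (v : H) (b⁻¹ * act (w : H) b) := by
            rw [map_mul act, MulAut.mul_apply, map_mul (act (v : H)), map_inv (act (v : H)),
              mul_assoc, mul_inv_cancel_left]
          show ε (b⁻¹ * act ((v : H) * w) b) = _
          rw [e, S.eps_mul (hUt v v.2 b hb) (S.ninv v (Or.inr (hUK v.2)) _ (hUt w w.2 b hb)),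
            S.eps_inv (Or.inr (hUK v.2)) (hUt w w.2 b hb)] }
    have h2 : g ⟨u, hu⟩ ^ 2 = 1 := by
      show ε _ ^ 2 = 1
      rw [pow_two, ← S.eps_mul (hUt u hu b hb) (hUt u hu b hb), hδsq u b hb (hUt u hu b hb), S.eps_one]
    obtain ⟨k, hk⟩ := S.odd.of_dvd_nat (Subgroup.card_dvd_of_le hUK)
    have h3 : g ⟨u, hu⟩ ^ Nat.card U = 1 := by rw [← map_pow, pow_card_eq_one', map_one]
    rw [hk, pow_succ, pow_mul, h2, one_pow, one_mul] at h3
    exact h3
  have htcf : ∀ tc : T, ψ tc = 1 → ∀ b ∈ B, ε (b⁻¹ * act (tc : H) b) = 1 := by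
    intro tc htc b hb
    let δ : B →* ℂˣ :=
      { toFun := fun x => Units.mk0 (ε ((x : A)⁻¹ * act (tc : H) x)) (S.eps_ne (htc0 tc htc x x.2))
        map_one' := Units.ext (by simp [S.eps_one])
        map_mul' := fun x y => Units.ext (by
          show ε (((x : A) * y)⁻¹ * act (tc : H) ((x : A) * y)) = _ * _
          have e : ((x : A) * y)⁻¹ * act (tc : H) ((x : A) * y) =
              ((x : A)⁻¹ * act (tc : H) x) * ((y : A)⁻¹ * act (tc : H) y) := by
            rw [map_mul, mul_inv_rev]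
            calc (y : A)⁻¹ * (x : A)⁻¹ * (act (tc : H) x * act (tc : H) y)
                = (y : A)⁻¹ * ((x : A)⁻¹ * act (tc : H) x) * act (tc : H) y := by
                  simp only [mul_assoc]
              _ = _ := by rw [← S.n_central (htc0 tc htc x x.2) (B.inv_mem y.2), mul_assoc]
          rw [e, S.eps_mul (htc0 tc htc x x.2) (htc0 tc htc y y.2)]
          rfl) }
    have key : δ ⟨b, hb⟩ = 1 := by
      refine S.ctx.hom_eq_one K S.odd S.le (fun x hx y hy => S.n_central hx hy) S.zmem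
        (fun k hk => S.binv k (Or.inr hk)) (fun k hk => S.ninv k (Or.inr hk)) S.fix δ ?_ ?_ ?_ ⟨b, hb⟩
      · intro x hx
        refine Units.ext ?_
        show ε ((x : A)⁻¹ * act (tc : H) x) = 1
        rw [S.eps_mul (N.inv_mem hx) (S.ninv _ (Or.inl tc.2) _ hx), S.eps_inv (Or.inl tc.2) hx,
          ← S.eps_mul (N.inv_mem hx) hx, inv_mul_cancel, S.eps_one]
      · intro k hk x
        refine Units.ext ?_
        show ε ((act k x)⁻¹ * act (tc : H) (act k x)) = ε ((x : A)⁻¹ * act (tc : H) x)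
        have hu := hker tc htc k hk
        set u := k⁻¹ * ((tc : H) * k * (tc : H)⁻¹) with hu'
        have hy : act (tc : H) x ∈ B := S.binv _ (Or.inl tc.2) x x.2
        have e : (act k x)⁻¹ * act (tc : H) (act k x) = act k (((x : A)⁻¹ * act (tc : H) x) *
            ((act (tc : H) x)⁻¹ * act u (act (tc : H) x))) := by
          rw [map_mul (act k), map_mul (act k), map_inv (act k), map_mul (act k), map_inv (act k)]
          simp [hu', map_mul, MulAut.mul_apply, mul_assoc]
        rw [e, S.eps_inv (Or.inr hk) (N.mul_mem (htc0 tc htc x x.2) (hUt u hu _ hy)),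
          S.eps_mul (htc0 tc htc x x.2) (hUt u hu _ hy), hδU u hu _ hy, mul_one]
      · intro x
        refine Units.ext ?_
        show ε _ * ε _ = 1
        rw [← S.eps_mul (htc0 tc htc x x.2) (htc0 tc htc x x.2),
          hδsq _ x x.2 (htc0 tc htc x x.2), S.eps_one]
    exact congrArg Units.val key
  have hact : ∀ tc : T, ψ tc = 1 → ∀ b ∈ B, o (act (tc : H) b) * f = o b * f := by
    intro tc htc b hb
    rw [show act (tc : H) b = b * (b⁻¹ * act (tc : H) b) from (mul_inv_cancel_left _ _).symm, o_mul,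
      mul_assoc, S.eps _ (htc0 tc htc b hb), htcf tc htc b hb, one_smul]
  -- the generator
  obtain ⟨g, hg⟩ := IsCyclic.exists_generator (α := ψ.range)
  obtain ⟨g₁, hg₁⟩ := g.2
  obtain ⟨U₁, hUs, V₁, hVs, hVU, hUV, hUi⟩ := S.exists_intertwiner (h := (g₁ : H)) (Or.inl g₁.2)
  let P : ℕ → MonoidAlgebra ℂ A := fun i => U₁ ^ i * f
  have hP0 : P 0 = f := by simp [P]
  have hPs : ∀ i, P i ∈ sp B f := fun i => by
    induction i with
    | zero => rw [hP0]; exact self_mem_sp
    | succ n ih =>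
      show U₁ ^ (n + 1) * f ∈ _
      rw [pow_succ', mul_assoc]
      exact mul_mem_sp S.comm S.idem hUs ih
  have hPm : ∀ i j, P (i + j) = P i * P j := fun i j => by
    show U₁ ^ (i + j) * f = U₁ ^ i * f * (U₁ ^ j * f)
    rw [mul_assoc (U₁ ^ i) f, show f * (U₁ ^ j * f) = U₁ ^ j * f from idem_mul S.comm S.idem (hPs j),
      pow_add, mul_assoc]
  have hP1 : P 1 = U₁ := by simp [P, mul_idem S.idem hUs]
  have hPi : ∀ i, ∀ b ∈ B, P i * o b = o (act (((g₁ ^ i : T) : H)) b) * P i := by
    intro i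
    induction i with
    | zero => intro b hb; rw [hP0]; simp [S.comm b hb]
    | succ n ih =>
      intro b hb
      rw [hPm n 1, hP1, mul_assoc, hUi b hb, ← mul_assoc, ih _ (S.binv _ (Or.inl g₁.2) b hb),
        mul_assoc]
      simp [pow_succ, map_mul, MulAut.mul_apply]
  set m := orderOf g with hm
  have hgm : ψ (g₁ ^ m) = 1 := by
    rw [map_pow, hg₁, ← SubgroupClass.coe_pow, hm, pow_orderOf_eq_one]
    rfl
  obtain ⟨c, hc⟩ := S.scalar (hPs m) fun b hb => by
    rw [hPi m b hb]
    conv_rhs => rw [← idem_mul S.comm S.idem (hPs m), ← mul_assoc, hact _ hgm b hb, mul_assoc,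
      idem_mul S.comm S.idem (hPs m)]
  have hc0 : c ≠ 0 := by
    rintro rfl
    have hV : ∀ n, V₁ ^ n * P n = f := by
      intro n
      induction n with
      | zero => simp [P]
      | succ n ih =>
        rw [pow_succ, add_comm n 1, hPm 1 n, hP1, mul_assoc, ← mul_assoc V₁, hVU,
          idem_mul S.comm S.idem (hPs n), ih]
    have := hV m
    rw [hc, zero_smul, mul_zero] at this
    exact S.ne this.symm
  obtain ⟨d, hd⟩ := IsAlgClosed.exists_pow_nat_eq (c⁻¹) (n := m) (orderOf_pos g)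
  let P' : ℕ → MonoidAlgebra ℂ A := fun i => d ^ i • P i
  have hPm' : ∀ i j, P' (i + j) = P' i * P' j := fun i j => by
    show d ^ (i + j) • P (i + j) = (d ^ i • P i) * (d ^ j • P j)
    rw [smul_mul_smul_comm, hPm, pow_add]
  have hPper : P' m = f := by
    show d ^ m • P m = f
    rw [hd, hc, smul_smul, inv_mul_cancel₀ hc0, one_smul]
  have hPmod : ∀ i, P' i = P' (i % m) := by
    intro i
    induction i using Nat.strong_induction_on with
    | _ i ih =>
      rcases Nat.lt_or_ge i m with h | h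
      · rw [Nat.mod_eq_of_lt h]
      · have e := hPm' m (i - m)
        rw [Nat.add_sub_cancel' h, hPper,
          idem_mul S.comm S.idem (Submodule.smul_mem _ _ (hPs (i - m)))] at e
        rw [show P' i = P' (i - m) from e, ih (i - m) (by have := orderOf_pos g; omega),
          Nat.mod_eq_sub_mod h]
  have hidx' : ∀ t : T, ∃ i : ℕ, g ^ i = ψ.rangeRestrict t := fun t => by
    obtain ⟨i, hi⟩ := mem_powers_iff_mem_zpowers.2 (hg (ψ.rangeRestrict t))
    exact ⟨i, hi⟩
  choose ι hι using hidx'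
  let τ : H → MonoidAlgebra ℂ A := fun t => if ht : t ∈ T then P' (ι ⟨t, ht⟩) else f
  have hτ : ∀ t (ht : t ∈ T), τ t = P' (ι ⟨t, ht⟩) := fun t ht => dif_pos ht
  have hP'eq : ∀ i j, g ^ i = g ^ j → P' i = P' j := fun i j h => by
    rw [hPmod i, hPmod j, pow_eq_pow_iff_modEq.1 h]
  refine ⟨τ, ?_, fun t ht u hu => ?_, fun t ht => ?_, fun t ht b hb => ?_⟩
  · rw [hτ 1 T.one_mem, hP'eq _ 0 ?_]
    · simp [P', hP0]
    · rw [hι, pow_zero]
      exact map_one ψ.rangeRestrict
  · rw [hτ _ (T.mul_mem ht hu), hτ t ht, hτ u hu, ← hPm']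
    refine hP'eq _ _ ?_
    rw [pow_add, hι, hι, hι, ← map_mul ψ.rangeRestrict]
    rfl
  · rw [hτ t ht]; exact Submodule.smul_mem _ _ (hPs _)
  · rw [hτ t ht]
    obtain ⟨i, hi, e0⟩ : ∃ i, i = ι ⟨t, ht⟩ ∧
        ((g ^ i : ψ.range) : MulAut (K ⧸ U.subgroupOf K)) = ψ ⟨t, ht⟩ :=
      ⟨_, rfl, congrArg Subtype.val (hι ⟨t, ht⟩)⟩
    rw [← hi]
    have hψ : ψ ((g₁ ^ i)⁻¹ * ⟨t, ht⟩) = 1 := by
      rw [map_mul, map_inv, map_pow, hg₁]
      exact inv_mul_eq_one.2 ((SubgroupClass.coe_pow g i).symm.trans e0)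
    set tc : T := (g₁ ^ i)⁻¹ * ⟨t, ht⟩ with htc
    have hb' : act (tc : H) b ∈ B := S.binv _ (Or.inl tc.2) b hb
    show (d ^ i • P i) * o b = o (act t b) * (d ^ i • P i)
    rw [smul_mul_assoc, mul_smul_comm]
    congr 1
    calc P i * o b = P i * (o (act (tc : H) b) * f) := by
          rw [hact tc hψ b hb, S.comm b hb, ← mul_assoc, mul_idem S.idem (hPs i)]
      _ = o (act ((g₁ ^ i : T) : H) (act (tc : H) b)) * P i := by
          rw [← mul_assoc, hPi i _ hb', mul_assoc, mul_idem S.idem (hPs i)]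
      _ = o (act t b) * P i := by
          rw [← MulAut.mul_apply, ← map_mul act]
          congr 4
          show ((g₁ ^ i : T) : H) * (((g₁ ^ i)⁻¹ * ⟨t, ht⟩ : T) : H) = t
          simp

end Sys

end CfsgLib.OddExtend
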