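import Cfsg.Agent.Lib.PGroup.OddExtend.Irreducible

/-!
# An abelian fixed-point-free image of prime exponent is cyclic of prime order
-/

set_option autoImplicit false
set_option maxHeartbeats 1000000

namespace CfsgLib.OddExtend

universe u v

variable {A : Type u} [Group A] [Finite A] {H : Type v} [Group H] [Finite H]
  {act : H →* MulAut A} {z : A}

namespace Sys

variable {T K : Subgroup H} {B N : Subgroup A} {ε : A → ℂ} {f : MonoidAlgebra ℂ A}

open Classical in
/-- If `K/U` acts without fixed points on `B/N` and has exponent `r`, then it is generated by any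
of its nontrivial elements. -/
theorem le_sup_zpowers (S : Sys act z T K B N ε f) (hBN : ¬ B ≤ N) {U : Subgroup H} (hUK : U ≤ K)
    (hcom : ∀ k ∈ K, ∀ l ∈ K, k * l * k⁻¹ * l⁻¹ ∈ U) (hUt : Triv act B N U)
    (hmax : ∀ V : Subgroup H, U < V → V ≤ K → fixMod act B N V = N)
    {r : ℕ} (hr : r.Prime) (hr2 : Odd r) (hexp : ∀ k ∈ K, k ^ r ∈ U) {a : H} (ha : a ∈ K)
    (haU : a ∉ U) : K ≤ U ⊔ Subgroup.zpowers a := by
  by_contra hcon
  obtain ⟨c, hcK, hcV⟩ := SetLike.not_le_iff_exists.1 hcon
  haveI : (N.subgroupOf B).Normal := ⟨fun x hx g => by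
    rw [Subgroup.mem_subgroupOf] at hx ⊢
    simp only [Subgroup.coe_mul, Subgroup.coe_inv]
    rw [← S.n_central hx g.2, mul_inv_cancel_right]
    exact hx⟩
  letI : CommGroup (B ⧸ N.subgroupOf B) :=
    { (inferInstance : Group (B ⧸ N.subgroupOf B)) with
      mul_comm := fun x y => by
        obtain ⟨x, rfl⟩ := QuotientGroup.mk'_surjective _ x
        obtain ⟨y, rfl⟩ := QuotientGroup.mk'_surjective _ y
        rw [← map_mul, ← map_mul, QuotientGroup.mk'_apply, QuotientGroup.mk'_apply,
          QuotientGroup.eq, Subgroup.mem_subgroupOf]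
        rcases S.ctx.comm (y : A) (x : A) with h | h
        · simp [mul_inv_rev, mul_assoc, h]
        · simp only [Subgroup.coe_mul, Subgroup.coe_inv, mul_inv_rev, h]
          rw [S.ctx.zcomm ((x : A) * y), ← mul_assoc, ← mul_assoc]
          simpa [mul_assoc] using S.zmem }
  let π := QuotientGroup.mk' (N.subgroupOf B)
  let ρ : K → (B →* B) := fun k =>
    { toFun := fun d => ⟨act (k : H) d, S.binv k (Or.inr k.2) d d.2⟩
      map_one' := Subtype.ext (map_one _)
      map_mul' := fun x y => Subtype.ext (map_mul _ _ _) }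
  have hl : ∀ k : K, N.subgroupOf B ≤ (π.comp (ρ k)).ker := fun k x hx => by
    rw [MonoidHom.mem_ker]
    exact (QuotientGroup.eq_one_iff _).2 (Subgroup.mem_subgroupOf.2
      (S.ninv k (Or.inr k.2) x (Subgroup.mem_subgroupOf.1 hx)))
  let Φ : K →* Monoid.End (B ⧸ N.subgroupOf B) :=
    { toFun := fun k => QuotientGroup.lift _ (π.comp (ρ k)) (hl k)
      map_one' := by
        refine QuotientGroup.monoidHom_ext _ (MonoidHom.ext fun b => ?_)
        show π (ρ 1 b) = π b
        congr 1
        exact Subtype.ext (by show act ((1 : K) : H) b = b; simp)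
      map_mul' := fun k l => by
        refine QuotientGroup.monoidHom_ext _ (MonoidHom.ext fun b => ?_)
        show π (ρ (k * l) b) = π (ρ k (ρ l b))
        congr 1
        refine Subtype.ext ?_
        show act ((k : H) * l) b = act k (act l b)
        rw [map_mul]; rfl }
  have hU1 : ∀ u : K, (u : H) ∈ U → Φ u = 1 := fun u hu => by
    refine QuotientGroup.monoidHom_ext _ (MonoidHom.ext fun b => ?_)
    show π (ρ u b) = π b
    rw [eq_comm, QuotientGroup.mk'_apply, QuotientGroup.mk'_apply, QuotientGroup.eq,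
      Subgroup.mem_subgroupOf]
    exact hUt u hu b b.2
  have hΦc : ∀ k l : K, Commute (Φ k) (Φ l) := fun k l => by
    show Φ k * Φ l = Φ l * Φ k
    rw [← map_mul, ← map_mul, show k * l = (k * l * k⁻¹ * l⁻¹) * (l * k) by group, map_mul,
      hU1 _ (hcom k k.2 l l.2), one_mul]
  have hS : ∀ x : K, (x : H) ∉ U → ∀ q, ∏ i ∈ Finset.range r, (Φ x ^ i) q = 1 := by
    intro x hx q
    set S₀ := ∏ i ∈ Finset.range r, (Φ x ^ i) q with hS₀
    have hfix : Φ x S₀ = S₀ := by
      rw [hS₀, map_prod]
      have hper : (Φ x ^ r) q = q := by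
        rw [← map_pow, hU1 (x ^ r) (by simpa using hexp x x.2)]
        rfl
      calc ∏ i ∈ Finset.range r, Φ x ((Φ x ^ i) q)
          = ∏ i ∈ Finset.range r, (Φ x ^ (i + 1)) q :=
            Finset.prod_congr rfl fun i _ => by rw [pow_succ']; rfl
        _ = _ := by
          obtain ⟨m, rfl⟩ : ∃ m, r = m + 1 := ⟨r - 1, by have := hr.pos; omega⟩
          rw [Finset.prod_range_succ, Finset.prod_range_succ', hper]
          simp
    obtain ⟨b, hb⟩ := QuotientGroup.mk'_surjective _ S₀
    have hbN : (b : A) ∈ N := by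
      have hV : U ⊔ Subgroup.zpowers (x : H) ≤ K := sup_le hUK (Subgroup.zpowers_le.2 x.2)
      have hlt : U < U ⊔ Subgroup.zpowers (x : H) := lt_of_le_of_ne le_sup_left fun h =>
        hx (h ▸ Subgroup.mem_sup_right (Subgroup.mem_zpowers _))
      rw [← hmax _ hlt hV, S.fixMod_sup hUK (Subgroup.zpowers_le.2 x.2)]
      refine ⟨(S.mem_fixMod hUK).2 ⟨b.2, fun u hu => hUt u hu b b.2⟩,
        (S.mem_fixMod (Subgroup.zpowers_le.2 x.2)).2 ⟨b.2, fun y hy => ?_⟩⟩
      obtain ⟨m, rfl⟩ := mem_powers_iff_mem_zpowers.2 hy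
      have e : π (ρ (x ^ m) b) = π b := by
        have : (Φ x ^ m) (π b) = π b := by
          clear hy
          induction m with
          | zero => rfl
          | succ m ih =>
            rw [pow_succ]
            show (Φ x ^ m) (Φ x (π b)) = π b
            rw [show π b = S₀ from hb, hfix, ← show π b = S₀ from hb, ih]
        rw [← map_pow] at this
        exact this
      rw [eq_comm, QuotientGroup.mk'_apply, QuotientGroup.mk'_apply, QuotientGroup.eq,
        Subgroup.mem_subgroupOf] at e
      simpa [ρ] using e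
    rw [← hb]
    exact (QuotientGroup.eq_one_iff _).2 (Subgroup.mem_subgroupOf.2 hbN)
  set a' : K := ⟨a, ha⟩
  set c' : K := ⟨c, hcK⟩
  refine hBN fun b hb => ?_
  have hq : ∀ q, q ^ r = (1 : B ⧸ N.subgroupOf B) := by
    intro q
    have h1 : ∏ j ∈ Finset.range r, ∏ i ∈ Finset.range r, (Φ (a' * c' ^ j) ^ i) q = 1 :=
      Finset.prod_eq_one fun j _ => hS _ (fun h => ?_) q
    swap
    · refine hcV ?_
      rcases Nat.eq_zero_or_pos j with rfl | hj
      · exact absurd (by simpa [a'] using h) haU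
      · have h2 : c ^ j ∈ U ⊔ Subgroup.zpowers a := by
          have := Subgroup.mul_mem _ (Subgroup.inv_mem _ (Subgroup.mem_sup_right (Subgroup.mem_zpowers a)))
            (Subgroup.mem_sup_left (S := U) (T := Subgroup.zpowers a) (show a * c ^ j ∈ U by simpa [a', c'] using h))
          simpa using this
        rename_i hjr
        have hjr' : j < r := Finset.mem_range.1 hjr
        obtain ⟨x, hx⟩ : ∃ x : ℤ, ∃ y : ℤ, (1 : ℤ) = j * x + r * y := by
          refine ⟨Nat.gcdA j r, Nat.gcdB j r, ?_⟩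
          rw [← Nat.gcd_eq_gcd_ab, Nat.Coprime.gcd_eq_one]
          · simp
          · exact Nat.Coprime.symm (hr.coprime_iff_not_dvd.2 fun hd =>
              absurd (Nat.le_of_dvd hj hd) (by omega))
        obtain ⟨y, hxy⟩ := hx
        rw [← zpow_one c, hxy, zpow_add, zpow_mul, zpow_mul, zpow_natCast, zpow_natCast]
        exact mul_mem (zpow_mem h2 _) (zpow_mem (Subgroup.mem_sup_left (hexp c hcK)) _)
    rw [Finset.prod_comm] at h1
    have h2 : ∀ i ∈ Finset.range r, ∏ j ∈ Finset.range r, (Φ (a' * c' ^ j) ^ i) q =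
        if i = 0 then q ^ r else 1 := by
      intro i hi
      have e : ∀ j, (Φ (a' * c' ^ j) ^ i) q = (Φ a' ^ i) ((Φ (c' ^ i) ^ j) q) := fun j => by
        rw [map_mul, (hΦc _ _).mul_pow, map_pow, map_pow, ← pow_mul, mul_comm j i, pow_mul]
        rfl
      simp only [e]
      rw [← map_prod]
      split_ifs with h0
      · subst h0
        simp only [pow_zero, map_one, one_pow]
        show ∏ x ∈ Finset.range r, q = q ^ r
        simp
      · rw [hS _ (fun h => ?_) q, map_one]
        refine hcV ?_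
        have hco : Nat.Coprime i r := Nat.Coprime.symm (hr.coprime_iff_not_dvd.2 fun hd =>
          absurd (Nat.le_of_dvd (Nat.pos_of_ne_zero h0) hd) (by simp at hi; omega))
        obtain ⟨x, y, hxy⟩ : ∃ x y : ℤ, (1 : ℤ) = i * x + r * y :=
          ⟨Nat.gcdA i r, Nat.gcdB i r, by rw [← Nat.gcd_eq_gcd_ab, hco.gcd_eq_one]; simp⟩
        have hci : c ^ i ∈ U := by simpa [c'] using h
        refine Subgroup.mem_sup_left ?_
        rw [← zpow_one c, hxy, zpow_add, zpow_mul, zpow_mul, zpow_natCast, zpow_natCast]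
        exact mul_mem (zpow_mem hci _) (zpow_mem (hexp c hcK) _)
    rw [Finset.prod_congr rfl h2, Finset.prod_ite_eq' (Finset.range r) 0 (fun _ => q ^ r)] at h1
    simpa [hr.pos] using h1
  have h3 := hq (π ⟨b, hb⟩)
  rw [← map_pow, QuotientGroup.mk'_apply, QuotientGroup.eq_one_iff, Subgroup.mem_subgroupOf] at h3
  simp only [SubgroupClass.coe_pow] at h3
  obtain ⟨k, hk⟩ := hr2
  rw [hk, pow_succ, pow_mul] at h3
  have h4 : (b ^ 2) ^ k ∈ N := N.pow_mem (by
    rw [pow_two]
    rcases S.ctx.sq b with h | h <;> rw [h]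
    · exact N.one_mem
    · exact S.zmem) k
  have h5 := N.mul_mem (N.inv_mem h4) h3
  rwa [inv_mul_cancel_left] at h5

end Sys

end CfsgLib.OddExtend
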