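import Cfsg.Agent.Lib.PGroup.OddExtend.Basic

/-!
# The commutator pairing and coprime averaging
-/

set_option autoImplicit false

namespace CfsgLib.OddExtend

universe u v w

variable {A : Type u} [Group A] [Finite A] {H : Type v} [Group H] [Finite H]
  {act : H →* MulAut A} {z : A}

namespace Ctx

open Classical in
/-- The commutator pairing with `x`, a sign homomorphism. -/
noncomputable def beta (C : Ctx act z) (x : A) : A →* ℤˣ where
  toFun y := if x * y = y * x then 1 else -1
  map_one' := by simp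
  map_mul' a b := by
    have hc : ∀ y, x * y ≠ y * x → x * y = z * (y * x) := fun y h => (C.comm x y).resolve_left h
    by_cases ha : x * a = a * x <;> by_cases hb : x * b = b * x
    · have : x * (a * b) = a * b * x := by rw [← mul_assoc, ha, mul_assoc, hb, mul_assoc]
      simp [ha, hb, this]
    · have : ¬ x * (a * b) = a * b * x := by
        rw [← mul_assoc, ha, mul_assoc, mul_assoc]
        exact fun h => hb (mul_left_cancel h)
      simp [ha, hb, this]
    · have : ¬ x * (a * b) = a * b * x := by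
        rw [mul_assoc a b x, ← hb, ← mul_assoc, ← mul_assoc]
        exact fun h => ha (mul_right_cancel h)
      simp [ha, hb, this]
    · have : x * (a * b) = a * b * x := by
        calc x * (a * b) = z * (a * x) * b := by rw [← mul_assoc, hc a ha]
          _ = z * a * (x * b) := by simp only [mul_assoc]
          _ = z * a * (z * (b * x)) := by rw [hc b hb]
          _ = z * (a * z) * (b * x) := by simp only [mul_assoc]
          _ = z * (z * a) * (b * x) := by rw [← C.zcomm a]
          _ = a * b * x := by rw [← mul_assoc z z, C.zsq, one_mul, mul_assoc]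
      simp [ha, hb, this]

theorem beta_eq_one_iff (C : Ctx act z) {x y : A} : C.beta x y = 1 ↔ x * y = y * x := by
  classical
  by_cases h : x * y = y * x <;> simp [beta, h]

theorem beta_symm (C : Ctx act z) (x y : A) : C.beta x y = C.beta y x := by
  classical
  by_cases h : x * y = y * x
  · simp [beta, h]
  · have h' : ¬ y * x = x * y := fun e => h e.symm
    simp [beta, h, h']

theorem beta_act (C : Ctx act z) (h : H) (x y : A) : C.beta (act h x) (act h y) = C.beta x y := by
  classical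
  have : act h x * act h y = act h y * act h x ↔ x * y = y * x := by
    rw [← map_mul, ← map_mul, (act h).injective.eq_iff]
  by_cases hxy : x * y = y * x
  · simp [beta, hxy, this.2 hxy]
  · simp only [beta, MonoidHom.coe_mk, OneHom.coe_mk, if_neg hxy,
      if_neg (fun e => hxy (this.1 e))]

/-- `|X| |C_Y(X)| ≤ |Y| |C_X(Y)|`. -/
theorem pair_le (C : Ctx act z) (X Y : Subgroup A) :
    Nat.card X * Nat.card ↥(Y ⊓ Subgroup.centralizer (X : Set A)) ≤
      Nat.card Y * Nat.card ↥(X ⊓ Subgroup.centralizer (Y : Set A)) := by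
  set W := Y ⊓ Subgroup.centralizer (X : Set A) with hW
  let good : Set (Subgroup A) := {E | W ≤ E ∧ E ≤ Y ∧
    Nat.card X * Nat.card W ≤ Nat.card E * Nat.card ↥(X ⊓ Subgroup.centralizer (E : Set A))}
  have hWg : W ∈ good := by
    refine ⟨le_rfl, inf_le_left, ?_⟩
    have : X ⊓ Subgroup.centralizer (W : Set A) = X := by
      refine inf_eq_left.2 fun x hx => Subgroup.mem_centralizer_iff.2 fun y hy => ?_
      exact (Subgroup.mem_centralizer_iff.1 hy.2 x hx).symm
    rw [this, mul_comm]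
  obtain ⟨E, hE, hmax⟩ := Set.Finite.exists_maximalFor id good (Set.toFinite _) ⟨W, hWg⟩
  obtain ⟨hWE, hEY, hcard⟩ := hE
  rcases eq_or_lt_of_le hEY with rfl | hlt
  · exact hcard
  exfalso
  obtain ⟨y, hy, hyE⟩ := SetLike.exists_of_lt hlt
  set E' := E ⊔ Subgroup.zpowers y with hE'
  have hyE' : y ∈ E' := Subgroup.mem_sup_right (Subgroup.mem_zpowers y)
  set U := X ⊓ Subgroup.centralizer (E : Set A) with hU
  set U' := X ⊓ Subgroup.centralizer (E' : Set A) with hU'
  have h2 : 2 * Nat.card E ≤ Nat.card E' := by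
    have hd := Subgroup.card_dvd_of_le (le_sup_left : E ≤ E')
    obtain ⟨k, hk⟩ := hd
    rcases Nat.lt_or_ge k 2 with hk2 | hk2
    · exfalso
      have hle : Nat.card E' ≤ Nat.card E := by rw [hk]; nlinarith
      exact hyE ((Subgroup.eq_of_le_of_card_ge (le_sup_left : E ≤ E') hle) ▸ hyE')
    · rw [hk, mul_comm 2]; exact Nat.mul_le_mul_left _ hk2
  have hU2 : Nat.card U ≤ 2 * Nat.card U' := by
    set ψ := (C.beta y).comp U.subtype
    have hker : Nat.card ψ.ker ≤ Nat.card U' := by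
      refine Nat.card_le_card_of_injective (fun u => (⟨((u : U) : A), ?_⟩ : U')) ?_
      · refine ⟨(u : U).2.1, ?_⟩
        have hu : y * ((u : U) : A) = ((u : U) : A) * y := C.beta_eq_one_iff.1 u.2
        have : (E' : Subgroup A) ≤ Subgroup.centralizer {((u : U) : A)} := by
          refine sup_le (fun e he => ?_) ((Subgroup.zpowers_le).2 ?_)
          · rw [Subgroup.mem_centralizer_singleton_iff]
            exact Subgroup.mem_centralizer_iff.1 (u : U).2.2 e he
          · rw [Subgroup.mem_centralizer_singleton_iff]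
            exact hu
        exact Subgroup.mem_centralizer_iff.2 fun e he =>
          Subgroup.mem_centralizer_singleton_iff.1 (this he)
      · intro a b h
        exact Subtype.ext (Subtype.ext (congrArg (fun x : U' => (x : A)) h))
    have hidx : ψ.ker.index ≤ 2 := by
      rw [Subgroup.index_ker]
      calc Nat.card ψ.range ≤ Nat.card ℤˣ := Nat.card_le_card_of_injective _ Subtype.val_injective
        _ = 2 := by simp
    rw [← ψ.ker.card_mul_index]
    calc Nat.card ψ.ker * ψ.ker.index ≤ Nat.card U' * 2 := Nat.mul_le_mul hker hidx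
      _ = 2 * Nat.card U' := mul_comm _ _
  have hgood : E' ∈ good := by
    refine ⟨hWE.trans le_sup_left, sup_le hEY (Subgroup.zpowers_le.2 hy), hcard.trans ?_⟩
    calc Nat.card E * Nat.card U ≤ Nat.card E * (2 * Nat.card U') := Nat.mul_le_mul_left _ hU2
      _ = 2 * Nat.card E * Nat.card U' := by ring
      _ ≤ _ := Nat.mul_le_mul_right _ h2
  exact hyE (hmax hgood (le_sup_left : E ≤ E') hyE')

/-- A homomorphism invariant under an odd group fixing only `N` modulo `N` has odd torsion values. -/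
theorem pow_card_eq_one (C : Ctx act z) (R : Subgroup H) {D N : Subgroup A} (hle : N ≤ D)
    (hn : ∀ a ∈ N, ∀ b ∈ D, a * b = b * a) (hz : z ∈ N)
    (hD : ∀ r ∈ R, ∀ b ∈ D, act r b ∈ D) (hN : ∀ r ∈ R, ∀ a ∈ N, act r a ∈ N)
    (hfix : ∀ b ∈ D, (∀ r ∈ R, b⁻¹ * act r b ∈ N) → b ∈ N)
    {M : Type w} [CommGroup M] (ψ : D →* M) (hψ : ∀ a : D, (a : A) ∈ N → ψ a = 1)
    (hR : ∀ r (hr : r ∈ R), ∀ b : D, ψ ⟨act r b, hD r hr b b.2⟩ = ψ b) (b : D) :
    ψ b ^ Nat.card R = 1 := by
  classical
  haveI : (N.subgroupOf D).Normal := ⟨fun a ha g => by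
    rw [Subgroup.mem_subgroupOf] at ha ⊢
    simp only [Subgroup.coe_mul, Subgroup.coe_inv]
    rw [← hn _ ha g g.2, mul_inv_cancel_right]
    exact ha⟩
  let π := QuotientGroup.mk' (N.subgroupOf D)
  letI : CommGroup (D ⧸ N.subgroupOf D) :=
    { (inferInstance : Group (D ⧸ N.subgroupOf D)) with
      mul_comm := fun x y => by
        obtain ⟨x, rfl⟩ := QuotientGroup.mk'_surjective _ x
        obtain ⟨y, rfl⟩ := QuotientGroup.mk'_surjective _ y
        rw [← map_mul, ← map_mul, QuotientGroup.mk'_apply, QuotientGroup.mk'_apply,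
          QuotientGroup.eq, Subgroup.mem_subgroupOf]
        rcases C.comm (y : A) (x : A) with h | h
        · simp [mul_inv_rev, mul_assoc, h]
        · simp only [Subgroup.coe_mul, Subgroup.coe_inv, mul_inv_rev, h]
          rw [C.zcomm ((x : A) * y), ← mul_assoc, ← mul_assoc]
          simpa [mul_assoc] using hz }
  haveI := Fintype.ofFinite R
  let ρ : R → (D →* D) := fun r =>
    { toFun := fun d => ⟨act (r : H) d, hD r r.2 d d.2⟩
      map_one' := Subtype.ext (map_one _)
      map_mul' := fun x y => Subtype.ext (map_mul _ _ _) }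
  let S : D ⧸ N.subgroupOf D := ∏ r : R, π (ρ r b)
  have hl : N.subgroupOf D ≤ ψ.ker := fun a ha => hψ a (Subgroup.mem_subgroupOf.1 ha)
  let ψ' := QuotientGroup.lift (N.subgroupOf D) ψ hl
  have h1 : ψ' S = ψ b ^ Nat.card R := by
    show ψ' (∏ r : R, π (ρ r b)) = _
    rw [map_prod, Finset.prod_congr rfl (fun r _ => show ψ' (π (ρ r b)) = ψ b from hR r r.2 b),
      Finset.prod_const, Finset.card_univ, Nat.card_eq_fintype_card]
  obtain ⟨s, hs⟩ := QuotientGroup.mk'_surjective _ S
  have hsN : (s : A) ∈ N := by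
    refine hfix s s.2 fun r hr => ?_
    have hl' : N.subgroupOf D ≤ (π.comp (ρ ⟨r, hr⟩)).ker := fun a ha => by
      rw [MonoidHom.mem_ker]
      exact (QuotientGroup.eq_one_iff _).2 (Subgroup.mem_subgroupOf.2
        (hN r hr a (Subgroup.mem_subgroupOf.1 ha)))
    let φ := QuotientGroup.lift (N.subgroupOf D) (π.comp (ρ ⟨r, hr⟩)) hl'
    have e : φ S = S := by
      show φ (∏ x : R, π (ρ x b)) = _
      rw [map_prod]
      refine (Finset.prod_congr rfl fun x _ => ?_).trans
        (Equiv.prod_comp (Equiv.mulLeft (⟨r, hr⟩ : R)) fun x => π (ρ x b))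
      show π (ρ ⟨r, hr⟩ (ρ x b)) = π (ρ (⟨r, hr⟩ * x) b)
      congr 1
      refine Subtype.ext ?_
      show act r (act (x : H) b) = act (r * (x : H)) b
      rw [map_mul]; rfl
    rw [← hs] at e
    have e' : π (ρ ⟨r, hr⟩ s) = π s := e
    rw [QuotientGroup.mk'_apply, QuotientGroup.mk'_apply, eq_comm, QuotientGroup.eq,
      Subgroup.mem_subgroupOf] at e'
    exact e'
  rw [← h1, ← hs]
  exact hψ s hsN

/-- Coprime lifting of fixed points. -/
theorem mem_of_fix (C : Ctx act z) (R : Subgroup H) (hodd : Odd (Nat.card R)) {D D' N : Subgroup A}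
    (hND : N ≤ D') (hDD : D' ≤ D)
    (hn : ∀ a ∈ N, ∀ b ∈ D, a * b = b * a) (hn' : ∀ a ∈ D', ∀ b ∈ D, a * b = b * a) (hz : z ∈ N)
    (hD : ∀ r ∈ R, ∀ b ∈ D, act r b ∈ D) (hN : ∀ r ∈ R, ∀ a ∈ N, act r a ∈ N)
    (hfix : ∀ b ∈ D, (∀ r ∈ R, b⁻¹ * act r b ∈ N) → b ∈ N)
    (hD' : ∀ r ∈ R, ∀ a ∈ D', act r a ∈ D')
    {c : A} (hc : c ∈ D) (hcr : ∀ r ∈ R, c⁻¹ * act r c ∈ D') : c ∈ D' := by
  classical
  -- the subgroup of elements fixed modulo `D'`
  let F : Subgroup A :=
    { carrier := {d | d ∈ D ∧ ∀ r ∈ R, d⁻¹ * act r d ∈ D'}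
      one_mem' := ⟨D.one_mem, fun r _ => by simp⟩
      mul_mem' := fun {a b} ha hb => ⟨D.mul_mem ha.1 hb.1, fun r hr => by
        have : (a * b)⁻¹ * act r (a * b) = (a⁻¹ * act r a) * (b⁻¹ * act r b) := by
          rw [map_mul, mul_inv_rev]
          calc b⁻¹ * a⁻¹ * (act r a * act r b) = b⁻¹ * (a⁻¹ * act r a) * act r b := by
                simp only [mul_assoc]
            _ = _ := by rw [← hn' _ (ha.2 r hr) b⁻¹ (D.inv_mem hb.1), mul_assoc]
        rw [this]
        exact D'.mul_mem (ha.2 r hr) (hb.2 r hr)⟩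
      inv_mem' := fun {a} ha => ⟨D.inv_mem ha.1, fun r hr => by
        have : a⁻¹⁻¹ * act r a⁻¹ = (a⁻¹ * act r a)⁻¹ := by
          have h2 := hn' _ (D'.inv_mem (ha.2 r hr)) a ha.1
          rw [map_inv, inv_inv]
          calc a * (act r a)⁻¹ = (a * (a⁻¹ * act r a)⁻¹) * a⁻¹ := by simp [mul_assoc]
            _ = _ := by rw [← h2, mul_inv_cancel_right]
        rw [this]
        exact D'.inv_mem (ha.2 r hr)⟩ }
  have hFD : F ≤ D := fun x hx => hx.1
  have hD'F : D' ≤ F := fun x hx =>
    ⟨hDD hx, fun r hr => D'.mul_mem (D'.inv_mem hx) (hD' r hr x hx)⟩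
  haveI : (D'.subgroupOf F).Normal := ⟨fun a ha g => by
    rw [Subgroup.mem_subgroupOf] at ha ⊢
    simp only [Subgroup.coe_mul, Subgroup.coe_inv]
    rw [← hn' _ ha g (hFD g.2), mul_inv_cancel_right]
    exact ha⟩
  letI : CommGroup (F ⧸ D'.subgroupOf F) :=
    { (inferInstance : Group (F ⧸ D'.subgroupOf F)) with
      mul_comm := fun x y => by
        obtain ⟨x, rfl⟩ := QuotientGroup.mk'_surjective _ x
        obtain ⟨y, rfl⟩ := QuotientGroup.mk'_surjective _ y
        rw [← map_mul, ← map_mul, QuotientGroup.mk'_apply, QuotientGroup.mk'_apply,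
          QuotientGroup.eq, Subgroup.mem_subgroupOf]
        rcases C.comm (y : A) (x : A) with h | h
        · simp [mul_inv_rev, mul_assoc, h]
        · simp only [Subgroup.coe_mul, Subgroup.coe_inv, mul_inv_rev, h]
          rw [C.zcomm ((x : A) * y), ← mul_assoc, ← mul_assoc]
          simpa [mul_assoc] using hND hz }
  have hFinv : ∀ r ∈ R, ∀ b ∈ F, act r b ∈ F := fun r hr b hb => by
    have h := hD'F (hb.2 r hr)
    have h2 := F.mul_mem hb h
    rwa [mul_inv_cancel_left] at h2
  have key := C.pow_card_eq_one R (hND.trans hD'F) (fun a ha b hb => hn a ha b (hFD hb)) hz hFinv hN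
    (fun b hb => hfix b (hFD hb)) (QuotientGroup.mk' (D'.subgroupOf F))
    (fun a ha => (QuotientGroup.eq_one_iff _).2 (Subgroup.mem_subgroupOf.2 (hND ha)))
    (fun r hr b => by
      rw [QuotientGroup.mk'_apply, QuotientGroup.mk'_apply, eq_comm, QuotientGroup.eq,
        Subgroup.mem_subgroupOf]
      exact b.2.2 r hr) ⟨c, hc, hcr⟩
  rw [← map_pow, QuotientGroup.mk'_apply, QuotientGroup.eq_one_iff, Subgroup.mem_subgroupOf] at key
  simp only [SubgroupClass.coe_pow] at key
  obtain ⟨k, hk⟩ := hodd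
  rw [hk, pow_succ, pow_mul] at key
  have h2 : (c ^ 2) ^ k ∈ D' := by
    refine D'.pow_mem ?_ k
    rw [pow_two]
    rcases C.sq c with h | h <;> rw [h]
    · exact D'.one_mem
    · exact hND hz
  have h3 := D'.mul_mem (D'.inv_mem h2) key
  rwa [inv_mul_cancel_left] at h3

/-- An invariant sign-valued homomorphism killing `N` is trivial. -/
theorem hom_eq_one (C : Ctx act z) (R : Subgroup H) (hodd : Odd (Nat.card R)) {D N : Subgroup A}
    (hle : N ≤ D) (hn : ∀ a ∈ N, ∀ b ∈ D, a * b = b * a) (hz : z ∈ N)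
    (hD : ∀ r ∈ R, ∀ b ∈ D, act r b ∈ D) (hN : ∀ r ∈ R, ∀ a ∈ N, act r a ∈ N)
    (hfix : ∀ b ∈ D, (∀ r ∈ R, b⁻¹ * act r b ∈ N) → b ∈ N)
    {M : Type w} [CommGroup M] (ψ : D →* M) (hψ : ∀ a : D, (a : A) ∈ N → ψ a = 1)
    (hR : ∀ r (hr : r ∈ R), ∀ b : D, ψ ⟨act r b, hD r hr b b.2⟩ = ψ b)
    (h2 : ∀ b, ψ b * ψ b = 1) (b : D) : ψ b = 1 := by
  have key := C.pow_card_eq_one R hle hn hz hD hN hfix ψ hψ hR b
  obtain ⟨k, hk⟩ := hodd
  rw [hk, pow_succ, pow_mul, pow_two, h2, one_pow, one_mul] at key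
  exact key

end Ctx

namespace Sys

variable {T K : Subgroup H} {B N : Subgroup A} {ε : A → ℂ} {f : MonoidAlgebra ℂ A}

theorem center_eq (S : Sys act z T K B N ε f) :
    B ⊓ Subgroup.centralizer (B : Set A) = N := by
  refine le_antisymm (fun b hb => S.nondeg b hb.1 fun c hc => ?_) fun a ha => ⟨S.le ha, ?_⟩
  · exact (Subgroup.mem_centralizer_iff.1 hb.2 c hc).symm
  · exact Subgroup.mem_centralizer_iff.2 fun c hc => (S.n_central ha hc).symm

theorem inf_cent (S : Sys act z T K B N ε f) {D : Subgroup A} (hND : N ≤ D) (hDB : D ≤ B) :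
    D ⊓ Subgroup.centralizer (B : Set A) = N := by
  refine le_antisymm ((inf_le_inf_right _ hDB).trans S.center_eq.le) fun a ha => ⟨hND ha, ?_⟩
  exact Subgroup.mem_centralizer_iff.2 fun c hc => (S.n_central ha hc).symm

/-- `|D| |C_B(D)| = |B| |N|`. -/
theorem card_cent (S : Sys act z T K B N ε f) {D : Subgroup A} (hND : N ≤ D) (hDB : D ≤ B) :
    Nat.card D * Nat.card ↥(B ⊓ Subgroup.centralizer (D : Set A)) = Nat.card B * Nat.card N := by
  have h1 := S.ctx.pair_le B D
  have h2 := S.ctx.pair_le D B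
  rw [S.inf_cent hND hDB] at h1 h2
  exact le_antisymm h2 h1

theorem le_cent (S : Sys act z T K B N ε f) {D : Subgroup A} (hDB : D ≤ B) :
    N ≤ B ⊓ Subgroup.centralizer (D : Set A) := fun _a ha =>
  ⟨S.le ha, Subgroup.mem_centralizer_iff.2 fun _c hc => (S.n_central ha (hDB hc)).symm⟩

theorem double_cent (S : Sys act z T K B N ε f) {D : Subgroup A} (hND : N ≤ D) (hDB : D ≤ B) :
    B ⊓ Subgroup.centralizer ((B ⊓ Subgroup.centralizer (D : Set A) : Subgroup A) : Set A) = D := by
  set C := B ⊓ Subgroup.centralizer (D : Set A) with hC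
  have h1 := S.card_cent (S.le_cent hDB) (inf_le_left : C ≤ B)
  have h2 := S.card_cent hND hDB
  rw [← h2, mul_comm (Nat.card D)] at h1
  have h3 := Nat.eq_of_mul_eq_mul_left Nat.card_pos h1
  have hle : D ≤ B ⊓ Subgroup.centralizer (C : Set A) := fun d hd =>
    ⟨hDB hd, Subgroup.mem_centralizer_iff.2 fun c hc =>
      (Subgroup.mem_centralizer_iff.1 hc.2 d hd).symm⟩
  exact (Subgroup.eq_of_le_of_card_ge hle h3.le).symm

theorem cent_inv (S : Sys act z T K B N ε f) {D : Subgroup A}
    (hD : ∀ h : H, h ∈ T ∨ h ∈ K → ∀ b ∈ D, act h b ∈ D) {h : H} (hh : h ∈ T ∨ h ∈ K) {b : A}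
    (hb : b ∈ B ⊓ Subgroup.centralizer (D : Set A)) :
    act h b ∈ B ⊓ Subgroup.centralizer (D : Set A) := by
  refine ⟨S.binv h hh b hb.1, Subgroup.mem_centralizer_iff.2 fun d hd => ?_⟩
  have hh' : h⁻¹ ∈ T ∨ h⁻¹ ∈ K := hh.imp (fun a => T.inv_mem a) (fun a => K.inv_mem a)
  have h1 := Subgroup.mem_centralizer_iff.1 hb.2 _ (hD _ hh' d hd)
  have h2 := congrArg (act h) h1
  rwa [map_mul, map_mul, map_inv, MulAut.apply_inv_self] at h2

end Sys

end CfsgLib.OddExtend
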