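import Cfsg.Agent.Lib.PGroup.OddExtend.Steps

/-!
# The irreducible case: fixed points of subgroups of `K` modulo `N`, orthogonality
-/

set_option autoImplicit false
set_option maxHeartbeats 1000000

namespace CfsgLib.OddExtend

universe u v

variable {A : Type u} [Group A] [Finite A] {H : Type v} [Group H] [Finite H]
  {act : H →* MulAut A} {z : A}

/-- The elements of `B` fixed by `U` modulo `N`, as a closure. -/
def fixMod (act : H →* MulAut A) (B N : Subgroup A) (U : Subgroup H) : Subgroup A :=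
  Subgroup.closure {b | b ∈ B ∧ ∀ u ∈ U, b⁻¹ * act u b ∈ N}

/-- `U` acts trivially on `B` modulo `N`. -/
def Triv (act : H →* MulAut A) (B N : Subgroup A) (U : Subgroup H) : Prop :=
  ∀ u ∈ U, ∀ b ∈ B, b⁻¹ * act u b ∈ N

/-- The conjugate subgroup. -/
def cj (t : H) (U : Subgroup H) : Subgroup H := U.map (MulAut.conj t).toMonoidHom

omit [Finite H] in
theorem mem_cj {t x : H} {U : Subgroup H} : x ∈ cj t U ↔ t⁻¹ * x * t ∈ U := by
  constructor
  · rintro ⟨u, hu, rfl⟩
    simpa [MulAut.conj_apply, mul_assoc] using hu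
  · intro h
    exact ⟨_, h, by simp [MulAut.conj_apply, mul_assoc]⟩

omit [Finite H] in
theorem cj_mul (s t : H) (U : Subgroup H) : cj (s * t) U = cj s (cj t U) := by
  ext x
  simp only [mem_cj, mul_inv_rev, mul_assoc]

omit [Finite H] in
theorem cj_one (U : Subgroup H) : cj 1 U = U := by
  ext x
  simp [mem_cj]

/-- An index two subgroup of a `2`-group containing a proper subgroup. -/
theorem exists_index_two {T W : Subgroup H} (hT : IsPGroup 2 T) (hWT : W ≤ T) (hne : W ≠ T) :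
    ∃ T₀ : Subgroup H, T₀ ≤ T ∧ W ≤ T₀ ∧ ∃ s ∈ T, s ∉ T₀ ∧
      (∀ t ∈ T, t ∈ T₀ ∨ t * s⁻¹ ∈ T₀) ∧ s * s ∈ T₀ ∧ ∀ t ∈ T₀, s * t * s⁻¹ ∈ T₀ := by
  have hW' : W.subgroupOf T ≠ ⊤ := fun h => hne (le_antisymm hWT (Subgroup.subgroupOf_eq_top.1 h))
  obtain ⟨M, hM, hWM⟩ := IsCoatomic.eq_top_or_exists_le_coatom (W.subgroupOf T) |>.resolve_left hW'
  haveI : Fact (Nat.Prime 2) := ⟨Nat.prime_two⟩
  haveI : Group.IsNilpotent T := hT.isNilpotent
  have hMn : M.Normal := Subgroup.NormalizerCondition.normal_of_coatom M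
    Group.normalizerCondition_of_isNilpotent hM
  have hidx : M.index = 2 := by
    obtain ⟨n, hn⟩ := hT.index M
    haveI : IsSimpleOrder (Subgroup (T ⧸ M)) := by
      haveI : Nontrivial (T ⧸ M) := QuotientGroup.nontrivial_iff.2 hM.1
      refine { exists_pair_ne := ⟨⊥, ⊤, bot_ne_top⟩, eq_bot_or_eq_top := fun V => ?_ }
      rcases eq_or_lt_of_le (QuotientGroup.le_comap_mk' M V) with h | h
      · left
        have := congrArg (Subgroup.map (QuotientGroup.mk' M)) h
        rw [Subgroup.map_comap_eq_self_of_surjective (QuotientGroup.mk'_surjective M),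
          QuotientGroup.map_mk'_self] at this
        exact this.symm
      · right
        have := congrArg (Subgroup.map (QuotientGroup.mk' M)) (hM.2 _ h)
        rwa [Subgroup.map_comap_eq_self_of_surjective (QuotientGroup.mk'_surjective M),
          Subgroup.map_top_of_surjective _ (QuotientGroup.mk'_surjective M)] at this
    rcases Nat.eq_zero_or_pos n with rfl | hn0
    · exact absurd (Subgroup.index_eq_one.1 (by simpa using hn)) hM.1
    obtain ⟨x, hx⟩ := exists_prime_orderOf_dvd_card' (G := T ⧸ M) 2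
      (by rw [← Subgroup.index_eq_card, hn]; exact dvd_pow_self 2 hn0.ne')
    rcases IsSimpleOrder.eq_bot_or_eq_top (Subgroup.zpowers x) with h | h
    · rw [Subgroup.zpowers_eq_bot] at h; simp [h] at hx
    · rw [Subgroup.index_eq_card, ← Subgroup.card_top (G := T ⧸ M), ← h, Nat.card_zpowers, hx]
  obtain ⟨s, hs⟩ : ∃ s : T, s ∉ M := by
    by_contra h
    push Not at h
    exact hM.1 ((Subgroup.eq_top_iff' M).2 h)
  refine ⟨M.map T.subtype, Subgroup.map_subtype_le M, fun w hw => ⟨⟨w, hWT hw⟩, hWM hw, rfl⟩,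
    s, s.2, fun ⟨y, hy, e⟩ => hs (Subtype.ext e ▸ hy), fun t ht => ?_, ?_, ?_⟩
  · by_cases h : (⟨t, ht⟩ : T) ∈ M
    · exact Or.inl ⟨_, h, rfl⟩
    · refine Or.inr ⟨⟨t, ht⟩ * s⁻¹, ?_, rfl⟩
      show (⟨t, ht⟩ : T) * s⁻¹ ∈ M
      rw [Subgroup.mul_mem_iff_of_index_two hidx]
      exact ⟨fun h' => absurd h' h, fun h' => absurd (inv_mem_iff.1 h') hs⟩
  · exact ⟨s * s, Subgroup.mul_self_mem_of_index_two hidx s, rfl⟩
  · rintro t ⟨y, hy, rfl⟩
    exact ⟨s * y * s⁻¹, hMn.conj_mem y hy s, rfl⟩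

namespace Sys

variable {T K : Subgroup H} {B N : Subgroup A} {ε : A → ℂ} {f : MonoidAlgebra ℂ A}

/-- Restriction of the 2-group. -/
theorem restrict (S : Sys act z T K B N ε f) {T₀ : Subgroup H} (h : T₀ ≤ T) :
    Sys act z T₀ K B N ε f :=
  { S with
    two := S.two.to_le h
    norm := fun t ht => S.norm t (h ht)
    fsig := fun x hx => S.fsig x (hx.imp (fun a => h a) id)
    binv := fun x hx => S.binv x (hx.imp (fun a => h a) id)
    ninv := fun x hx => S.ninv x (hx.imp (fun a => h a) id) }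

theorem mem_fixMod (S : Sys act z T K B N ε f) {U : Subgroup H} (hU : U ≤ K) {b : A} :
    b ∈ fixMod act B N U ↔ b ∈ B ∧ ∀ u ∈ U, b⁻¹ * act u b ∈ N := by
  refine ⟨fun h => ?_, fun h => Subgroup.subset_closure h⟩
  induction h using Subgroup.closure_induction with
  | mem x hx => exact hx
  | one => exact ⟨B.one_mem, fun u _ => by simp⟩
  | mul a b _ _ ha hb =>
    refine ⟨B.mul_mem ha.1 hb.1, fun u hu => ?_⟩
    have e : (a * b)⁻¹ * act u (a * b) = (a⁻¹ * act u a) * (b⁻¹ * act u b) := by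
      rw [map_mul, mul_inv_rev]
      calc b⁻¹ * a⁻¹ * (act u a * act u b) = b⁻¹ * (a⁻¹ * act u a) * act u b := by
            simp only [mul_assoc]
        _ = _ := by rw [← S.n_central (ha.2 u hu) (B.inv_mem hb.1), mul_assoc]
    rw [e]
    exact N.mul_mem (ha.2 u hu) (hb.2 u hu)
  | inv a _ ha =>
    refine ⟨B.inv_mem ha.1, fun u hu => ?_⟩
    have h2 := S.n_central (N.inv_mem (ha.2 u hu)) ha.1
    have e : a⁻¹⁻¹ * act u a⁻¹ = (a⁻¹ * act u a)⁻¹ := by
      rw [map_inv, inv_inv]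
      calc a * (act u a)⁻¹ = (a * (a⁻¹ * act u a)⁻¹) * a⁻¹ := by simp [mul_assoc]
        _ = _ := by rw [← h2, mul_inv_cancel_right]
    rw [e]
    exact N.inv_mem (ha.2 u hu)

theorem n_le_fixMod (S : Sys act z T K B N ε f) {U : Subgroup H} (hU : U ≤ K) :
    N ≤ fixMod act B N U := fun a ha => (S.mem_fixMod hU).2
  ⟨S.le ha, fun u hu => N.mul_mem (N.inv_mem ha) (S.ninv u (Or.inr (hU hu)) a ha)⟩

theorem fixMod_le (S : Sys act z T K B N ε f) {U : Subgroup H} (hU : U ≤ K) :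
    fixMod act B N U ≤ B := fun _ h => ((S.mem_fixMod hU).1 h).1

theorem fixMod_top (S : Sys act z T K B N ε f) : fixMod act B N K = N :=
  le_antisymm (fun b hb => S.fix b ((S.mem_fixMod le_rfl).1 hb).1 ((S.mem_fixMod le_rfl).1 hb).2)
    (S.n_le_fixMod le_rfl)

theorem fixMod_of_triv (S : Sys act z T K B N ε f) {U : Subgroup H} (hU : U ≤ K)
    (h : Triv act B N U) : fixMod act B N U = B :=
  le_antisymm (S.fixMod_le hU) fun b hb => (S.mem_fixMod hU).2 ⟨hb, fun u hu => h u hu b hb⟩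

theorem fixMod_sup (S : Sys act z T K B N ε f) {U V : Subgroup H} (hU : U ≤ K) (hV : V ≤ K) :
    fixMod act B N (U ⊔ V) = fixMod act B N U ⊓ fixMod act B N V := by
  ext b
  rw [Subgroup.mem_inf, S.mem_fixMod hU, S.mem_fixMod hV, S.mem_fixMod (sup_le hU hV)]
  refine ⟨fun h => ⟨⟨h.1, fun u hu => h.2 u (Subgroup.mem_sup_left hu)⟩,
    ⟨h.1, fun u hu => h.2 u (Subgroup.mem_sup_right hu)⟩⟩, fun h => ⟨h.1.1, fun u hu => ?_⟩⟩
  rw [Subgroup.sup_eq_closure] at hu
  have key : u ∈ K ∧ b⁻¹ * act u b ∈ N := by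
    induction hu using Subgroup.closure_induction with
    | mem x hx =>
      rcases hx with hx | hx
      · exact ⟨hU hx, h.1.2 x hx⟩
      · exact ⟨hV hx, h.2.2 x hx⟩
    | one => exact ⟨K.one_mem, by simp⟩
    | mul x y _ _ hx hy =>
      refine ⟨K.mul_mem hx.1 hy.1, ?_⟩
      have e : b⁻¹ * act (x * y) b = (b⁻¹ * act x b) * act x (b⁻¹ * act y b) := by
        rw [map_mul act, MulAut.mul_apply, map_mul (act x), map_inv (act x), mul_assoc,
          mul_inv_cancel_left]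
      rw [e]
      exact N.mul_mem hx.2 (S.ninv x (Or.inr hx.1) _ hy.2)
    | inv x _ hx =>
      refine ⟨K.inv_mem hx.1, ?_⟩
      have e : b⁻¹ * act x⁻¹ b = (act x⁻¹ (b⁻¹ * act x b))⁻¹ := by
        rw [map_mul (act x⁻¹), map_inv act, map_inv (act x)⁻¹, MulAut.inv_apply_self, mul_inv_rev,
          inv_inv]
      rw [e]
      exact N.inv_mem (S.ninv x⁻¹ (Or.inr (K.inv_mem hx.1)) _ hx.2)
  exact key.2

theorem cj_le (S : Sys act z T K B N ε f) {t : H} (ht : t ∈ T) {U : Subgroup H} (hU : U ≤ K) :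
    cj t U ≤ K := fun x hx => by
  have h := S.norm t ht _ (hU (mem_cj.1 hx))
  simpa [mul_assoc] using h

theorem act_mem_fixMod (S : Sys act z T K B N ε f) {h : H} (hh : h ∈ T ∨ h ∈ K) {U : Subgroup H}
    (hU : U ≤ K) (hU' : cj h U ≤ K) {b : A} (hb : b ∈ fixMod act B N U) :
    act h b ∈ fixMod act B N (cj h U) := by
  rw [S.mem_fixMod hU] at hb
  rw [S.mem_fixMod hU']
  refine ⟨S.binv h hh b hb.1, fun u hu => ?_⟩
  have e : (act h b)⁻¹ * act u (act h b) = act h (b⁻¹ * act (h⁻¹ * u * h) b) := by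
    rw [map_mul (act h), map_inv (act h), map_mul act, map_mul act, map_inv act]
    simp [MulAut.mul_apply]
  rw [e]
  exact S.ninv h hh _ (hb.2 _ (mem_cj.1 hu))

theorem k_mem_fixMod (S : Sys act z T K B N ε f) {U : Subgroup H} (hU : U ≤ K)
    (hn : ∀ k ∈ K, ∀ u ∈ U, k * u * k⁻¹ ∈ U) {k : H} (hk : k ∈ K) {b : A}
    (hb : b ∈ fixMod act B N U) : act k b ∈ fixMod act B N U := by
  have e : cj k U = U := by
    refine le_antisymm (fun x hx => ?_) (fun x hx => ?_)
    · have h := hn k hk _ (mem_cj.1 hx)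
      simpa [mul_assoc] using h
    · rw [mem_cj]
      simpa using hn k⁻¹ (K.inv_mem hk) x hx
  rw [← e] at hU
  have h := S.act_mem_fixMod (Or.inr hk) (e ▸ hU) hU hb
  rwa [e] at h

/-- Fixed spaces of two maximal subgroups are orthogonal. -/
theorem orth (S : Sys act z T K B N ε f) {U V : Subgroup H} (hU : U ≤ K) (hV : V ≤ K)
    (hn : ∀ k ∈ K, ∀ u ∈ V, k * u * k⁻¹ ∈ V)
    (hUV : fixMod act B N (U ⊔ V) = N) {x y : A} (hx : x ∈ fixMod act B N U)
    (hy : y ∈ fixMod act B N V) : x * y = y * x := by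
  have hodd : Odd (Nat.card U) :=
    S.odd.of_dvd_nat (Subgroup.card_dvd_of_le hU)
  have hD := S.fixMod_le hV
  have hinvD : ∀ r ∈ U, ∀ b ∈ fixMod act B N V, act r b ∈ fixMod act B N V := fun r hr b hb =>
    S.k_mem_fixMod hV hn (hU hr) hb
  let ψ := (S.ctx.beta x).comp (fixMod act B N V).subtype
  have key : ψ ⟨y, hy⟩ = 1 := by
    refine S.ctx.hom_eq_one U hodd (S.n_le_fixMod hV) (fun a ha b hb => S.n_central ha (hD hb))
      S.zmem hinvD (fun r hr => S.ninv r (Or.inr (hU hr))) ?_ ψ ?_ ?_ ?_ ⟨y, hy⟩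
    · intro b hb h
      rw [← hUV, S.fixMod_sup hU hV]
      exact ⟨(S.mem_fixMod hU).2 ⟨hD hb, h⟩, hb⟩
    · intro a ha
      exact S.ctx.beta_eq_one_iff.2 (S.n_central ha (S.fixMod_le hU hx)).symm
    · intro r hr b
      show S.ctx.beta x (act r b) = S.ctx.beta x b
      have h1 := S.ctx.beta_act r⁻¹ x (act r b)
      rw [map_inv act, MulAut.inv_apply_self] at h1
      have hn' : x⁻¹ * act r⁻¹ x ∈ N := ((S.mem_fixMod hU).1 hx).2 r⁻¹ (U.inv_mem hr)
      rw [← h1, ← map_inv act, show act r⁻¹ x = x * (x⁻¹ * act r⁻¹ x) from (mul_inv_cancel_left _ _).symm,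
        S.ctx.beta_symm, map_mul,
        (S.ctx.beta_eq_one_iff (y := x⁻¹ * act r⁻¹ x)).2 (S.n_central hn' (hD b.2)).symm, mul_one,
        S.ctx.beta_symm]
    · intro b
      exact Int.units_mul_self _
  exact S.ctx.beta_eq_one_iff.1 key

end Sys

end CfsgLib.OddExtend
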