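import Cfsg.Agent.Lib.PGroup.OddExtend.Steps

/-!
# Induction from the centraliser of an invariant abelian subgroup
-/

set_option autoImplicit false
set_option maxHeartbeats 1000000

namespace CfsgLib.OddExtend

universe u v

variable {A : Type u} [Group A] [Finite A] {H : Type v} [Group H] [Finite H]
  {act : H →* MulAut A} {z : A}

namespace Sys

variable {T K : Subgroup H} {B N D : Subgroup A} {ε : A → ℂ} {f : MonoidAlgebra ℂ A}

/-- The idempotent of a character of `D`. -/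
noncomputable def eIdem (f : MonoidAlgebra ℂ A) (χ : D →* ℂˣ) : MonoidAlgebra ℂ A :=
  ∑ᶠ d : D, ((Nat.card D : ℂ)⁻¹ * (χ d : ℂ)⁻¹) • (o (d : A) * f)

theorem eIdem_eq [Fintype D] (f : MonoidAlgebra ℂ A) (χ : D →* ℂˣ) :
    eIdem f χ = ∑ d : D, ((Nat.card D : ℂ)⁻¹ * (χ d : ℂ)⁻¹) • (o (d : A) * f) :=
  finsum_eq_sum_of_fintype _

theorem eIdem_mem (χ : D →* ℂˣ) : eIdem f χ ∈ sp D f := by
  haveI := Fintype.ofFinite D
  rw [eIdem_eq]
  exact Submodule.sum_mem _ fun d _ => Submodule.smul_mem _ _ (mem_sp d.2)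

theorem o_mul_eIdem (χ : D →* ℂˣ) (d : D) : o (d : A) * eIdem f χ = (χ d : ℂ) • eIdem f χ := by
  haveI := Fintype.ofFinite D
  rw [eIdem_eq, Finset.mul_sum, Finset.smul_sum]
  refine Fintype.sum_equiv (Equiv.mulLeft d) _ _ fun x => ?_
  rw [mul_smul_comm, ← mul_assoc, ← o_mul, smul_smul]
  show _ = ((χ d : ℂ) * ((Nat.card D : ℂ)⁻¹ * ((χ (d * x) : ℂˣ) : ℂ)⁻¹)) • _
  congr 1
  rw [map_mul, Units.val_mul, mul_inv]
  field_simp [Units.ne_zero (χ d)]

theorem eIdem_comm (χ : D →* ℂˣ) {b : A} (hb : ∀ d ∈ D, d * b = b * d)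
    (hf : o b * f = f * o b) : o b * eIdem f χ = eIdem f χ * o b := by
  refine commute_sp (B := D) (fun d hd => ?_) hf (eIdem_mem χ)
  rw [← o_mul, ← o_mul, hb d hd]

theorem f_eIdem (S : Sys act z T K B N ε f) (hDB : D ≤ B) (χ : D →* ℂˣ) :
    f * eIdem f χ = eIdem f χ ∧ eIdem f χ * f = eIdem f χ :=
  ⟨idem_mul S.comm S.idem (sp_mono hDB (eIdem_mem χ)),
    mul_idem S.idem (sp_mono hDB (eIdem_mem χ))⟩

theorem eIdem_idem (S : Sys act z T K B N ε f) (hDB : D ≤ B) (χ : D →* ℂˣ) :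
    eIdem f χ * eIdem f χ = eIdem f χ := by
  haveI := Fintype.ofFinite D
  conv_lhs => arg 1; rw [eIdem_eq]
  rw [Finset.sum_mul]
  have h : ∀ d : D, ((Nat.card D : ℂ)⁻¹ * (χ d : ℂ)⁻¹) • (o (d : A) * f) * eIdem f χ =
      (Nat.card D : ℂ)⁻¹ • eIdem f χ := fun d => by
    rw [smul_mul_assoc, mul_assoc, (S.f_eIdem hDB χ).1, o_mul_eIdem, smul_smul, mul_assoc,
      inv_mul_cancel₀ (Units.ne_zero _), mul_one]
  rw [Finset.sum_congr rfl (fun d _ => h d), Finset.sum_const, Finset.card_univ,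
    ← Nat.cast_smul_eq_nsmul ℂ, smul_smul, Nat.card_eq_fintype_card,
    mul_inv_cancel₀ (Nat.cast_ne_zero.2 Fintype.card_ne_zero), one_smul]

theorem avg_eIdem (S : Sys act z T K B N ε f) (hND : N ≤ D) (hDB : D ≤ B) (χ : D →* ℂˣ)
    (hχ : ∀ a : D, (a : A) ∈ N → (χ a : ℂ) = ε a) :
    avg B (eIdem f χ) =
      (Nat.card ↥(B ⊓ Subgroup.centralizer (D : Set A)) : ℂ) • f := by
  classical
  haveI := Fintype.ofFinite D
  haveI := Fintype.ofFinite N
  have hadd : avg B (eIdem f χ) =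
      ∑ d : D, ((Nat.card D : ℂ)⁻¹ * (χ d : ℂ)⁻¹) • avg B (o (d : A) * f) := by
    haveI := Fintype.ofFinite B
    simp only [eIdem_eq, avg_eq, Finset.mul_sum, Finset.sum_mul, Finset.smul_sum, mul_smul_comm,
      smul_mul_assoc]
    exact Finset.sum_comm
  have key : ∀ d : D, ((Nat.card D : ℂ)⁻¹ * (χ d : ℂ)⁻¹) • avg B (o (d : A) * f) =
      if (d : A) ∈ N then ((Nat.card D : ℂ)⁻¹ * Nat.card B) • f else 0 := by
    intro d
    split_ifs with hd
    · rw [S.avg_of_mem hd, smul_smul, hχ d hd]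
      congr 1
      field_simp [S.eps_ne hd]
    · rw [S.avg_of_not_mem (hDB d.2) hd, smul_zero]
  rw [hadd, Finset.sum_congr rfl (fun d _ => key d), Finset.sum_ite, Finset.sum_const_zero,
    add_zero, Finset.sum_const, ← Nat.cast_smul_eq_nsmul ℂ, smul_smul]
  congr 1
  have hcard : (Finset.univ.filter fun d : D => (d : A) ∈ N).card = Nat.card N := by
    rw [Nat.card_eq_fintype_card (α := N)]
    refine (Finset.card_bij (fun (a : N) _ => (⟨a, hND a.2⟩ : D)) ?_ ?_ ?_).symm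
    · intro a _; simp
    · intro a _ b _ hab; exact Subtype.ext (congrArg (fun x : D => (x : A)) hab)
    · intro w hw
      exact ⟨⟨w, (Finset.mem_filter.1 hw).2⟩, Finset.mem_univ _, rfl⟩
  rw [hcard]
  have hD0 : (Nat.card D : ℂ) ≠ 0 := Nat.cast_ne_zero.2 Nat.card_pos.ne'
  field_simp
  exact_mod_cast (Nat.mul_comm _ _).trans (S.card_cent hND hDB).symm

theorem sig_eIdem (S : Sys act z T K B N ε f) {h : H} (hh : h ∈ T ∨ h ∈ K)
    (hD : ∀ h : H, h ∈ T ∨ h ∈ K → ∀ b ∈ D, act h b ∈ D) (χ : D →* ℂˣ)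
    (hinv : ∀ a : D, χ ⟨act h a, hD h hh a a.2⟩ = χ a) :
    sig act h (eIdem f χ) = eIdem f χ := by
  haveI := Fintype.ofFinite D
  have hh' : h⁻¹ ∈ T ∨ h⁻¹ ∈ K := hh.imp (fun a => T.inv_mem a) (fun a => K.inv_mem a)
  rw [eIdem_eq, map_sum]
  let e : D ≃ D :=
    { toFun := fun a => ⟨act h a, hD h hh a a.2⟩
      invFun := fun a => ⟨act h⁻¹ a, hD h⁻¹ hh' a a.2⟩
      left_inv := fun a => Subtype.ext (by simp)
      right_inv := fun a => Subtype.ext (by simp) }
  refine Fintype.sum_equiv e _ _ fun x => ?_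
  rw [map_smul, map_mul, sig_o, S.fsig h hh]
  show ((Nat.card D : ℂ)⁻¹ * (χ x : ℂ)⁻¹) • _ =
    ((Nat.card D : ℂ)⁻¹ * (χ ⟨act h x, hD h hh x x.2⟩ : ℂ)⁻¹) • (o (act h x) * f)
  rw [hinv]

open Classical in
/-- The extended character as a function on `A`. -/
noncomputable def extFun (χ : D →* ℂˣ) (a : A) : ℂ := if h : a ∈ D then (χ ⟨a, h⟩ : ℂ) else 0

theorem extFun_eq (χ : D →* ℂˣ) (a : D) : extFun χ a = (χ a : ℂ) := by
  classical
  simp [extFun]

theorem isotropic_sys (S : Sys act z T K B N ε f) (hND : N ≤ D) (hDB : D ≤ B)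
    (hD : ∀ h : H, h ∈ T ∨ h ∈ K → ∀ b ∈ D, act h b ∈ D)
    (hab : ∀ a ∈ D, ∀ b ∈ D, a * b = b * a) (χ : D →* ℂˣ)
    (hχ : ∀ a : D, (a : A) ∈ N → (χ a : ℂ) = ε a)
    (hinv : ∀ h (hh : h ∈ T ∨ h ∈ K), ∀ a : D, χ ⟨act h a, hD h hh a a.2⟩ = χ a) :
    Sys act z T K (B ⊓ Subgroup.centralizer (D : Set A)) D (extFun χ) (eIdem f χ) := by
  have hDC : D ≤ B ⊓ Subgroup.centralizer (D : Set A) := fun d hd =>
    ⟨hDB hd, Subgroup.mem_centralizer_iff.2 fun c hc => hab c hc d hd⟩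
  refine
    { ctx := S.ctx
      two := S.two
      odd := S.odd
      norm := S.norm
      idem := S.eIdem_idem hDB χ
      ne := fun h0 => ?_
      comm := fun b hb => eIdem_comm χ (fun d hd => Subgroup.mem_centralizer_iff.1 hb.2 d hd)
        (S.comm b hb.1)
      zmem := hND S.zmem
      le := hDC
      eps := fun a ha => ?_
      epsz := ?_
      nondeg := fun b hb h => (S.double_cent hND hDB).le
        ⟨hb.1, Subgroup.mem_centralizer_iff.2 fun c hc => (h c hc).symm⟩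
      fsig := fun h hh => S.sig_eIdem hh hD χ (hinv h hh)
      binv := fun h hh b hb => S.cent_inv hD hh hb
      ninv := hD
      fix := fun b hb h => ?_ }
  · have h1 := S.avg_eIdem hND hDB χ hχ
    have h2 : avg B (eIdem f χ) = 0 := by
      haveI := Fintype.ofFinite B
      rw [avg_eq, h0]
      simp
    rw [h2] at h1
    exact S.ne ((smul_eq_zero.1 h1.symm).resolve_left (Nat.cast_ne_zero.2 Nat.card_pos.ne'))
  · rw [show extFun χ a = (χ ⟨a, ha⟩ : ℂ) from extFun_eq χ ⟨a, ha⟩]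
    exact o_mul_eIdem χ ⟨a, ha⟩
  · rw [show extFun χ z = (χ ⟨z, hND S.zmem⟩ : ℂ) from extFun_eq χ ⟨z, hND S.zmem⟩,
      hχ _ S.zmem, S.epsz]
  · exact S.ctx.mem_of_fix K S.odd hND hDC (fun a ha c hc => S.n_central ha hc.1)
      (fun a ha c hc => Subgroup.mem_centralizer_iff.1 hc.2 a ha) S.zmem
      (fun r hr c hc => S.cent_inv hD (Or.inr hr) hc) (fun r hr => S.ninv r (Or.inr hr))
      (fun c hc => S.fix c hc.1) (fun r hr => hD r (Or.inr hr)) hb h

/-- The induction step. -/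
theorem impl_induced (S : Sys act z T K B N ε f) (hND : N ≤ D) (hDB : D ≤ B)
    (hab : ∀ a ∈ D, ∀ b ∈ D, a * b = b * a) (χ : D →* ℂˣ)
    (hχ : ∀ a : D, (a : A) ∈ N → (χ a : ℂ) = ε a)
    (i : Impl act T (B ⊓ Subgroup.centralizer (D : Set A)) (eIdem f χ)) :
    Impl act T B f := by
  classical
  set C := B ⊓ Subgroup.centralizer (D : Set A) with hC
  set e := eIdem f χ with he
  haveI := Fintype.ofFinite B
  haveI := Fintype.ofFinite C
  obtain ⟨τ, τ1, τm, τs, τi⟩ := i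
  have hC0 : (Nat.card C : ℂ) ≠ 0 := Nat.cast_ne_zero.2 Nat.card_pos.ne'
  have hee : e * e = e := S.eIdem_idem hDB χ
  have heC : ∀ c ∈ C, o c * e = e * o c := fun c hc =>
    eIdem_comm χ (fun d hd => Subgroup.mem_centralizer_iff.1 hc.2 d hd) (S.comm c hc.1)
  have hef : e ∈ sp B f := sp_mono hDB (eIdem_mem χ)
  have hτB : ∀ t ∈ T, τ t ∈ sp B f := by
    intro t ht
    refine Submodule.span_le.2 ?_ (τs t ht)
    rintro _ ⟨c, hc, rfl⟩
    exact o_mul_mem_sp hc.1 hef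
  have hvan : ∀ q ∈ B, q ∉ C → e * o q * e = 0 := by
    intro q hq hqC
    obtain ⟨d, hd, hne⟩ : ∃ d ∈ D, d * q ≠ q * d := by
      by_contra hcon
      push Not at hcon
      exact hqC ⟨hq, Subgroup.mem_centralizer_iff.2 hcon⟩
    have h1 : o d * e = (χ ⟨d, hd⟩ : ℂ) • e := o_mul_eIdem χ ⟨d, hd⟩
    have h2 : e * o d = (χ ⟨d, hd⟩ : ℂ) • e := by
      rw [← eIdem_comm χ (fun x hx => hab x hx d hd) (S.comm d (hDB hd)), h1]
    have hfe : f * e = e := (S.f_eIdem hDB χ).1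
    have h3 : o d * o q * e = -(o q * o d * e) := by
      calc o d * o q * e = o d * o q * f * e := by rw [mul_assoc _ f, hfe]
        _ = -(o q * o d * e) := by rw [S.anti (hDB hd) hq hne, neg_mul, mul_assoc _ f, hfe]
    have h4 : e * (o d * o q * e) = (χ ⟨d, hd⟩ : ℂ) • (e * o q * e) := by
      rw [← mul_assoc, ← mul_assoc, h2, smul_mul_assoc, smul_mul_assoc]
    have h5 : e * (o q * o d * e) = (χ ⟨d, hd⟩ : ℂ) • (e * o q * e) := by
      rw [mul_assoc (o q), h1, mul_smul_comm, mul_smul_comm, ← mul_assoc]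
    rw [h3, mul_neg, h5, neg_eq_iff_add_eq_zero, ← two_smul ℂ, smul_smul] at h4
    exact (smul_eq_zero.1 h4).resolve_left (mul_ne_zero two_ne_zero (Units.ne_zero _))
  let σ : H → MonoidAlgebra ℂ A := fun t =>
    (Nat.card C : ℂ)⁻¹ • ∑ r : B, o (act t r) * τ t * o ((r : A)⁻¹)
  refine ⟨σ, ?_, fun t ht u hu => ?_, fun t ht => ?_, fun t ht b hb => ?_⟩
  · show _ • _ = f
    simp only [map_one, MulAut.one_apply, τ1]
    rw [← avg_eq, S.avg_eIdem hND hDB χ hχ, smul_smul, inv_mul_cancel₀ hC0, one_smul]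
  · show _ = ((Nat.card C : ℂ)⁻¹ • _) * ((Nat.card C : ℂ)⁻¹ • _)
    rw [smul_mul_smul_comm, Finset.mul_sum]
    have key : ∀ q : B,
        (∑ r : B, o (act t r) * τ t * o ((r : A)⁻¹)) * (o (act u q) * τ u * o ((q : A)⁻¹)) =
          (Nat.card C : ℂ) • (o (act (t * u) q) * τ (t * u) * o ((q : A)⁻¹)) := by
      intro q
      have hte : τ t * e = τ t := mul_idem hee (τs t ht)
      have heu : e * τ u = τ u := idem_mul heC hee (τs u hu)
      have hq' : act u (q : A) ∈ B := S.binv u (Or.inl hu) q q.2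
      rw [Finset.sum_mul, ← Fintype.sum_equiv
        ((Equiv.inv B).trans (Equiv.mulLeft (⟨act u q, hq'⟩ : B)))
        (fun c : B => o (act t (act u q * (c : A)⁻¹)) * τ t * o (c : A) * (τ u * o ((q : A)⁻¹))) _
        fun c => ?_]
      swap
      · show _ = o (act t ((⟨act u q, hq'⟩ * c⁻¹ : B) : A)) * τ t *
            o (((⟨act u q, hq'⟩ * c⁻¹ : B) : A)⁻¹) * (o (act u q) * τ u * o ((q : A)⁻¹))
        simp only [Subgroup.coe_mul, Subgroup.coe_inv, mul_inv_rev, inv_inv, o_mul]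
        simp only [mul_assoc]
        rw [← mul_assoc (o ((act u (q : A))⁻¹)) (o (act u (q : A))), ← o_mul, inv_mul_cancel,
          o_one, one_mul]
      have hterm : ∀ c : B, o (act t (act u q * (c : A)⁻¹)) * τ t * o (c : A) * (τ u * o ((q : A)⁻¹)) =
          if (c : A) ∈ C then o (act (t * u) q) * τ (t * u) * o ((q : A)⁻¹) else 0 := by
        intro c
        split_ifs with hc
        · rw [mul_assoc _ (τ t), τi t ht c hc, ← mul_assoc _ (o (act t (c : A))), ← o_mul,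
            ← map_mul, inv_mul_cancel_right, map_mul act, MulAut.mul_apply, τm t ht u hu]
          simp only [mul_assoc]
        · rw [← hte, ← heu]
          calc o (act t (act u q * (c : A)⁻¹)) * (τ t * e) * o (c : A) * (e * τ u * o ((q : A)⁻¹))
              = o (act t (act u q * (c : A)⁻¹)) * τ t * (e * o (c : A) * e) * τ u * o ((q : A)⁻¹) := by
                simp only [mul_assoc]
            _ = 0 := by rw [hvan c c.2 hc, mul_zero, zero_mul, zero_mul]
      rw [Finset.sum_congr rfl (fun c _ => hterm c), Finset.sum_ite, Finset.sum_const_zero,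
        add_zero, Finset.sum_const, ← Nat.cast_smul_eq_nsmul ℂ]
      congr 2
      rw [Nat.card_eq_fintype_card (α := C)]
      refine (Finset.card_bij (fun (a : C) _ => (⟨a, a.2.1⟩ : B)) ?_ ?_ ?_).symm
      · intro a _; simp
      · intro a _ b _ hab; exact Subtype.ext (congrArg (fun x : B => (x : A)) hab)
      · intro w hw
        exact ⟨⟨w, (Finset.mem_filter.1 hw).2⟩, Finset.mem_univ _, rfl⟩
    rw [Finset.sum_congr rfl (fun q _ => key q), ← Finset.smul_sum, smul_smul, mul_assoc,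
      inv_mul_cancel₀ hC0, mul_one]
  · refine Submodule.smul_mem _ _ (Submodule.sum_mem _ fun r _ => ?_)
    exact mul_o_mem_sp S.comm (B.inv_mem r.2)
      (o_mul_mem_sp (S.binv t (Or.inl ht) r r.2) (hτB t ht))
  · show (_ • _) * _ = _ * (_ • _)
    rw [smul_mul_assoc, mul_smul_comm, Finset.sum_mul, Finset.mul_sum]
    congr 1
    refine (Fintype.sum_equiv (Equiv.mulLeft (⟨b, hb⟩ : B)) _ _ fun r => ?_).symm
    show o (act t b) * (o (act t r) * τ t * o ((r : A)⁻¹)) =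
      o (act t ((⟨b, hb⟩ * r : B) : A)) * τ t * o (((⟨b, hb⟩ * r : B) : A)⁻¹) * o b
    rw [Subgroup.coe_mul, map_mul, mul_inv_rev, o_mul, o_mul]
    simp only [mul_assoc]
    rw [← o_mul b⁻¹, inv_mul_cancel, o_one, mul_one]

end Sys

end CfsgLib.OddExtend
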