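import Cfsg.Agent.Lib.PGroup.OddExtend.Irreducible

/-!
# Orthogonal blocks permuted by `T`: extending from an index two subgroup
-/

set_option autoImplicit false
set_option maxHeartbeats 1000000

namespace CfsgLib.OddExtend

universe u v

variable {A : Type u} [Group A] [Finite A] {H : Type v} [Group H] [Finite H]
  {act : H →* MulAut A} {z : A}

namespace Sys

variable {T K : Subgroup H} {B N : Subgroup A} {ε : A → ℂ} {f : MonoidAlgebra ℂ A}

/-- The two blocks of an irreducible system. -/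
theorem exists_blocks (S : Sys act z T K B N ε f)
    (hirr : ∀ D : Subgroup A, N ≤ D → D ≤ B →
      (∀ h : H, h ∈ T ∨ h ∈ K → ∀ b ∈ D, act h b ∈ D) → D = N ∨ D = B)
    {U : Subgroup H} (hUK : U ≤ K) (hUn : ∀ k ∈ K, ∀ u ∈ U, k * u * k⁻¹ ∈ U)
    (hU : fixMod act B N U ≠ N)
    (hmax : ∀ t ∈ T, cj t U ≠ U → fixMod act B N (U ⊔ cj t U) = N)
    (hW : ¬ ∀ t ∈ T, cj t U = U) :
    ∃ (T₀ : Subgroup H) (s : H) (B₁ : Subgroup A), T₀ ≤ T ∧ s ∈ T ∧ s ∉ T₀ ∧
      (∀ t ∈ T, t ∈ T₀ ∨ t * s⁻¹ ∈ T₀) ∧ s * s ∈ T₀ ∧ (∀ t ∈ T₀, s * t * s⁻¹ ∈ T₀) ∧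
      N ≤ B₁ ∧ B₁ < B ∧ (∀ h : H, h ∈ T₀ ∨ h ∈ K → ∀ b ∈ B₁, act h b ∈ B₁) ∧
      (∀ a ∈ B₁, ∀ b ∈ B₁, a * act s b = act s b * a) ∧
      B ≤ B₁ ⊔ B₁.map (act s).toMonoidHom := by
  let W : Subgroup H :=
    { carrier := {t | t ∈ T ∧ cj t U = U}
      one_mem' := ⟨T.one_mem, cj_one U⟩
      mul_mem' := fun {a b} ha hb => ⟨T.mul_mem ha.1 hb.1, by rw [cj_mul, hb.2, ha.2]⟩
      inv_mem' := fun {a} ha => ⟨T.inv_mem ha.1, by
        conv_lhs => rw [← ha.2]
        rw [← cj_mul, inv_mul_cancel, cj_one]⟩ }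
  obtain ⟨T₀, hT₀, hWT₀, s, hs, hs₀, hcov, hs2, hsn⟩ := exists_index_two (W := W) S.two
    (fun t ht => ht.1) (fun h => hW fun t ht => (h.ge ht).2)
  set B₁ : Subgroup A := ⨆ t : T₀, fixMod act B N (cj (t : H) U) with hB₁
  have hcj : ∀ t ∈ T, cj t U ≤ K := fun t ht => S.cj_le ht hUK
  have hcn : ∀ t ∈ T, ∀ k ∈ K, ∀ u ∈ cj t U, k * u * k⁻¹ ∈ cj t U := by
    intro t ht k hk u hu
    rw [mem_cj] at hu ⊢
    have hk' : t⁻¹ * k * t ∈ K := by simpa using S.norm t⁻¹ (T.inv_mem ht) k hk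
    simpa [mul_assoc] using hUn _ hk' _ hu
  have hle : B₁ ≤ B := iSup_le fun t => S.fixMod_le (hcj t (hT₀ t.2))
  have hN1 : N ≤ B₁ := (S.n_le_fixMod (hcj _ (hT₀ T₀.one_mem))).trans
    (le_iSup (fun t : T₀ => fixMod act B N (cj (t : H) U)) 1)
  have hgen : ∀ h : H, h ∈ T₀ ∨ h ∈ K → B₁ ≤ B₁.comap (act h).toMonoidHom := by
    intro h hh
    refine iSup_le fun t b hb => ?_
    show act h b ∈ B₁
    rcases hh with hh | hh
    · refine Subgroup.mem_iSup_of_mem (⟨h, hh⟩ * t : T₀) ?_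
      have := S.act_mem_fixMod (Or.inl (hT₀ hh)) (hcj t (hT₀ t.2))
        (by rw [← cj_mul]; exact hcj _ (T.mul_mem (hT₀ hh) (hT₀ t.2))) hb
      rwa [← cj_mul] at this
    · exact Subgroup.mem_iSup_of_mem t (S.k_mem_fixMod (hcj t (hT₀ t.2)) (hcn t (hT₀ t.2)) hh hb)
  have horth : ∀ a ∈ T, ∀ c ∈ T, cj a U ≠ cj c U → ∀ x ∈ fixMod act B N (cj a U),
      ∀ y ∈ fixMod act B N (cj c U), x * y = y * x := by
    intro a ha c hc hne x hx y hy
    have hac : a⁻¹ * c ∈ T := T.mul_mem (T.inv_mem ha) hc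
    have hne' : cj (a⁻¹ * c) U ≠ U := fun h => hne (by
      conv_lhs => rw [← h]
      rw [← cj_mul, mul_inv_cancel_left])
    have hx' : act a⁻¹ x ∈ fixMod act B N U := by
      have := S.act_mem_fixMod (Or.inl (T.inv_mem ha)) (hcj a ha)
        (by rw [← cj_mul, inv_mul_cancel, cj_one]; exact hUK) hx
      rwa [← cj_mul, inv_mul_cancel, cj_one] at this
    have hy' : act a⁻¹ y ∈ fixMod act B N (cj (a⁻¹ * c) U) := by
      have := S.act_mem_fixMod (Or.inl (T.inv_mem ha)) (hcj c hc)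
        (by rw [← cj_mul]; exact hcj _ hac) hy
      rwa [← cj_mul] at this
    have h := S.orth hUK (hcj _ hac) (hcn _ hac) (hmax _ hac hne') hx' hy'
    rw [← map_mul, ← map_mul] at h
    exact (act a⁻¹).injective h
  have hcomm : ∀ a ∈ B₁, ∀ b ∈ B₁, a * act s b = act s b * a := by
    have h1 : ∀ t : T₀, ∀ x ∈ fixMod act B N (cj (t : H) U), ∀ b ∈ B₁, x * act s b = act s b * x := by
      intro t x hx
      have : B₁ ≤ (Subgroup.centralizer {x}).comap (act s).toMonoidHom := by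
        refine iSup_le fun u b hb => ?_
        show act s b ∈ Subgroup.centralizer {x}
        rw [Subgroup.mem_centralizer_singleton_iff]
        have hsu : s * (u : H) ∈ T := T.mul_mem hs (hT₀ u.2)
        have hb' : act s b ∈ fixMod act B N (cj (s * u) U) := by
          have := S.act_mem_fixMod (Or.inl hs) (hcj u (hT₀ u.2))
            (by rw [← cj_mul]; exact hcj _ hsu) hb
          rwa [← cj_mul] at this
        refine (horth t (hT₀ t.2) (s * u) hsu (fun heq => hs₀ ?_) x hx _ hb').symm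
        have hw : (t : H)⁻¹ * (s * u) ∈ W := by
          refine ⟨T.mul_mem (T.inv_mem (hT₀ t.2)) hsu, ?_⟩
          rw [cj_mul, ← heq, ← cj_mul, inv_mul_cancel, cj_one]
        have h2 := T₀.mul_mem (T₀.mul_mem t.2 (hWT₀ hw)) (T₀.inv_mem u.2)
        simpa [mul_assoc] using h2
      intro b hb
      exact (Subgroup.mem_centralizer_singleton_iff.1 (this hb)).symm
    intro a ha b hb
    have : B₁ ≤ Subgroup.centralizer {act s b} := iSup_le fun t x hx =>
      Subgroup.mem_centralizer_singleton_iff.2 (h1 t x hx b hb)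
    exact Subgroup.mem_centralizer_singleton_iff.1 (this ha)
  set B₂ : Subgroup A := B₁.map (act s).toMonoidHom with hB₂
  have hB₂le : B₂ ≤ B := Subgroup.map_le_iff_le_comap.2 fun b hb => S.binv s (Or.inl hs) b (hle hb)
  have hD : ∀ h : H, h ∈ T ∨ h ∈ K → B₁ ⊔ B₂ ≤ (B₁ ⊔ B₂).comap (act h).toMonoidHom := by
    have base : ∀ h : H, h ∈ T₀ ∨ h ∈ K → B₁ ⊔ B₂ ≤ (B₁ ⊔ B₂).comap (act h).toMonoidHom := by
      intro h hh
      refine sup_le ((hgen h hh).trans (Subgroup.comap_mono le_sup_left)) ?_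
      rintro _ ⟨b, hb, rfl⟩
      show act h (act s b) ∈ B₁ ⊔ B₂
      have hh' : s⁻¹ * h * s ∈ T₀ ∨ s⁻¹ * h * s ∈ K := by
        rcases hh with hh | hh
        · left
          have h2 := T₀.mul_mem (T₀.mul_mem (T₀.inv_mem hs2) (hsn h hh)) hs2
          simpa [mul_assoc, mul_inv_rev] using h2
        · right; simpa using S.norm s⁻¹ (T.inv_mem hs) h hh
      refine Subgroup.mem_sup_right ⟨act (s⁻¹ * h * s) b, hgen _ hh' hb, ?_⟩
      show act s (act (s⁻¹ * h * s) b) = act h (act s b)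
      simp [map_mul, MulAut.mul_apply]
    have hsb : B₁ ⊔ B₂ ≤ (B₁ ⊔ B₂).comap (act s).toMonoidHom := by
      refine sup_le (fun b hb => Subgroup.mem_sup_right ⟨b, hb, rfl⟩) ?_
      rintro _ ⟨b, hb, rfl⟩
      refine Subgroup.mem_sup_left ?_
      have := hgen (s * s) (Or.inl hs2) hb
      simpa [map_mul, MulAut.mul_apply] using this
    intro h hh
    rcases hh with hh | hh
    · rcases hcov h hh with h0 | h0
      · exact base h (Or.inl h0)
      · intro b hb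
        have := base _ (Or.inl h0) (hsb hb)
        simpa [map_mul, MulAut.mul_apply] using this
    · exact base h (Or.inr hh)
  have htop : B ≤ B₁ ⊔ B₂ := by
    rcases hirr _ (hN1.trans le_sup_left) (sup_le hle hB₂le) (fun h hh b hb => hD h hh hb) with h | h
    · exfalso
      refine hU (le_antisymm ?_ (S.n_le_fixMod hUK))
      have h1 := le_iSup (fun t : T₀ => fixMod act B N (cj (t : H) U)) 1
      rw [show ((1 : T₀) : H) = 1 from rfl, cj_one] at h1
      exact h1.trans (le_sup_left.trans h.le)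
    · exact h.ge
  have hlt : B₁ < B := by
    refine lt_of_le_of_ne hle fun heq => hU (le_antisymm (fun x hx => ?_) (S.n_le_fixMod hUK))
    have hxB : x ∈ B₁ := by
      have h1 := le_iSup (fun t : T₀ => fixMod act B N (cj (t : H) U)) 1
      rw [show ((1 : T₀) : H) = 1 from rfl, cj_one] at h1
      exact h1 hx
    have h2 : act s x ∈ N := S.nondeg _ (S.binv s (Or.inl hs) x (S.fixMod_le hUK hx)) fun c hc =>
      (hcomm c (heq ▸ hc) x hxB).symm
    have h3 := S.ninv s⁻¹ (Or.inl (T.inv_mem hs)) _ h2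
    rwa [map_inv act, MulAut.inv_apply_self] at h3
  exact ⟨T₀, s, B₁, hT₀, hs, hs₀, hcov, hs2, hsn, hN1, hlt, fun h hh b hb => hgen h hh hb, hcomm,
    htop⟩

/-- Extension of an implementation from `T₀` to `T`. -/
theorem impl_wreath (S : Sys act z T K B N ε f) {T₀ : Subgroup H} {s : H} {B₁ : Subgroup A}
    (hT₀ : T₀ ≤ T) (hs : s ∈ T) (hs₀ : s ∉ T₀) (hcov : ∀ t ∈ T, t ∈ T₀ ∨ t * s⁻¹ ∈ T₀)
    (hs2 : s * s ∈ T₀) (hsn : ∀ t ∈ T₀, s * t * s⁻¹ ∈ T₀) (hle : B₁ ≤ B)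
    (hinv : ∀ t ∈ T₀, ∀ b ∈ B₁, act t b ∈ B₁)
    (hcomm : ∀ a ∈ B₁, ∀ b ∈ B₁, a * act s b = act s b * a)
    (htop : B ≤ B₁ ⊔ B₁.map (act s).toMonoidHom)
    (i : Impl act T₀ B₁ f) : Impl act T B f := by
  classical
  obtain ⟨α, α1, αm, αs, αi⟩ := i
  set B₂ := B₁.map (act s).toMonoidHom with hB₂
  have hB₂le : B₂ ≤ B := Subgroup.map_le_iff_le_comap.2 fun b hb => S.binv s (Or.inl hs) b (hle hb)
  have hsf : sig act s f = f := S.fsig s (Or.inl hs)
  have hsn' : ∀ t ∈ T₀, s⁻¹ * t * s ∈ T₀ := fun t ht => by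
    have h2 := T₀.mul_mem (T₀.mul_mem (T₀.inv_mem hs2) (hsn t ht)) hs2
    simpa [mul_assoc, mul_inv_rev] using h2
  let β : H → MonoidAlgebra ℂ A := fun t => sig act s (α (s⁻¹ * t * s))
  have hβm : ∀ t ∈ T₀, ∀ u ∈ T₀, β (t * u) = β t * β u := fun t ht u hu => by
    show sig act s _ = sig act s _ * sig act s _
    rw [← map_mul, ← αm _ (hsn' t ht) _ (hsn' u hu)]
    simp [mul_assoc]
  have hβs : ∀ t ∈ T₀, β t ∈ sp B₂ f := fun t ht =>
    sig_mem_sp act (B₁ := B₁) (B₂ := B₂) (fun b hb => Subgroup.mem_map_of_mem (act s).toMonoidHom hb) hsf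
      (αs _ (hsn' t ht))
  have hβi : ∀ t ∈ T₀, ∀ b ∈ B₂, β t * o b = o (act t b) * β t := by
    rintro t ht _ ⟨b, hb, rfl⟩
    show sig act s _ * o (act s b) = o (act t (act s b)) * sig act s _
    rw [← sig_o act s b, ← map_mul, αi _ (hsn' t ht) b hb, map_mul, sig_o]
    simp [map_mul, MulAut.mul_apply]
  have hcomm' : ∀ a ∈ B₁, ∀ b ∈ B₂, a * b = b * a := by
    rintro a ha _ ⟨b, hb, rfl⟩
    exact hcomm a ha b hb
  have c₁ : ∀ b ∈ B₁, o b * f = f * o b := fun b hb => S.comm b (hle hb)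
  have c₂ : ∀ b ∈ B₂, o b * f = f * o b := fun b hb => S.comm b (hB₂le hb)
  have hswap : ∀ t ∈ T₀, ∀ u ∈ T₀, α t * β u = β u * α t := fun t ht u hu =>
    sp_commute c₁ c₂ hcomm' (αs t ht) (hβs u hu)
  have hi₁ : Impl act T₀ B₁ f := ⟨α, α1, αm, αs, αi⟩
  have hi₂ : Impl act T₀ B₂ f := ⟨β, by simp [β, α1, hsf], hβm, hβs, hβi⟩
  -- the implementation on `T₀`
  let τ₀ : H → MonoidAlgebra ℂ A := fun t => α t * β t
  have τ₀1 : τ₀ 1 = f := by simp [τ₀, β, α1, hsf, S.idem]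
  have τ₀m : ∀ t ∈ T₀, ∀ u ∈ T₀, τ₀ (t * u) = τ₀ t * τ₀ u := fun t ht u hu => by
    show α (t * u) * β (t * u) = α t * β t * (α u * β u)
    rw [αm t ht u hu, hβm t ht u hu, mul_assoc (α t), ← mul_assoc (α u), hswap u hu t ht,
      mul_assoc (β t), ← mul_assoc (α t)]
  have τ₀s : ∀ t ∈ T₀, τ₀ t ∈ sp B f := fun t ht =>
    mul_mem_sp S.comm S.idem (sp_mono hle (αs t ht)) (sp_mono hB₂le (hβs t ht))
  obtain ⟨U, hUs, V, hVs, hVU, hUV, hUi⟩ := S.exists_intertwiner (h := s) (Or.inl hs)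
  have hUf : U * f = sig act s f * U := by
    rw [hsf, mul_idem S.idem hUs, idem_mul S.comm S.idem hUs]
  have hinter : ∀ x ∈ sp B f, U * x = sig act s x * U := fun x hx => intertwine_sp act hUi hUf hx
  have hs2' : ∀ t ∈ T₀, (s * s) * t * (s * s)⁻¹ ∈ T₀ := fun t ht =>
    T₀.mul_mem (T₀.mul_mem hs2 ht) (T₀.inv_mem hs2)
  have hsig2 : ∀ t ∈ T₀, sig act (s * s) (α t) = α ((s * s) * t * (s * s)⁻¹) := by
    intro t ht
    have hf2 : α (s * s) * f = sig act (s * s) f * α (s * s) := by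
      rw [S.fsig _ (Or.inl (T.mul_mem hs hs)), mul_idem S.idem (αs _ hs2),
        idem_mul c₁ S.idem (αs _ hs2)]
    have h1 := intertwine_sp act (αi _ hs2) hf2 (αs t ht)
    rw [← αm _ hs2 t ht, show s * s * t = ((s * s) * t * (s * s)⁻¹) * (s * s) by group,
      αm _ (hs2' t ht) _ hs2] at h1
    have h2 := congrArg (fun x => x * α (s * s)⁻¹) h1
    rw [mul_assoc (α _) (α (s * s)) _, mul_assoc (sig act (s * s) (α t)) (α (s * s)) _,
      ← αm _ hs2 _ (T₀.inv_mem hs2), mul_inv_cancel, α1] at h2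
    rw [mul_idem S.idem (αs _ (hs2' t ht)),
      mul_idem S.idem (sig_mem_sp act (fun b hb => hinv _ hs2 b hb)
        (S.fsig _ (Or.inl (T.mul_mem hs hs))) (αs t ht))] at h2
    exact h2.symm
  have hconj : ∀ t ∈ T₀, sig act s (τ₀ t) = τ₀ (s * t * s⁻¹) := by
    intro t ht
    have e1 : sig act s (α t) = β (s * t * s⁻¹) := by
      show _ = sig act s _
      simp [mul_assoc]
    have e2 : sig act s (β t) = α (s * t * s⁻¹) := by
      show sig act s (sig act s _) = _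
      rw [← sig_mul, hsig2 _ (hsn' t ht)]
      simp [mul_assoc, mul_inv_rev]
    show sig act s (α t * β t) = α _ * β _
    rw [map_mul, e1, e2, hswap _ (hsn t ht) _ (hsn t ht)]
  have hi₀ : ∀ t ∈ T₀, ∀ b ∈ B, τ₀ t * o b = o (act t b) * τ₀ t := by
    intro t ht b hb
    let G₀ : Subgroup A :=
      { carrier := {b | τ₀ t * o b = o (act t b) * τ₀ t}
        one_mem' := by simp [o_one]
        mul_mem' := fun {a b} ha hb => by
          simp only [Set.mem_setOf_eq] at ha hb ⊢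
          rw [map_mul, o_mul, o_mul, ← mul_assoc, ha, mul_assoc, hb, ← mul_assoc]
        inv_mem' := fun {a} ha => by
          simp only [Set.mem_setOf_eq] at ha ⊢
          have e : o (act t a⁻¹) * (τ₀ t * o a) * o a⁻¹ =
              o (act t a⁻¹) * (o (act t a) * τ₀ t) * o a⁻¹ := by rw [ha]
          rw [← mul_assoc (o (act t a⁻¹)) (o (act t a)), ← o_mul, ← map_mul, inv_mul_cancel,
            map_one, o_one, one_mul] at e
          rw [← e]
          simp only [mul_assoc]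
          rw [← o_mul, mul_inv_cancel, o_one, mul_one] }
    have g₁ : B₁ ≤ G₀ := fun b hb => by
      show α t * β t * o b = o (act t b) * (α t * β t)
      rw [mul_assoc, (commute_sp (y := o b) (fun c hc => by rw [← o_mul, ← o_mul, hcomm' b hb c hc])
        (c₁ b hb) (hβs t ht)).symm, ← mul_assoc, αi t ht b hb, mul_assoc]
    have g₂ : B₂ ≤ G₀ := fun b hb => by
      show α t * β t * o b = o (act t b) * (α t * β t)
      rw [mul_assoc, hβi t ht b hb]
      have hb2 : act t b ∈ B₂ := by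
        obtain ⟨c, hc, rfl⟩ := hb
        exact ⟨act (s⁻¹ * t * s) c, hinv _ (hsn' t ht) c hc, by simp [map_mul, MulAut.mul_apply]⟩
      rw [← mul_assoc, ← mul_assoc, commute_sp (y := o (act t b))
        (fun c hc => by rw [← o_mul, ← o_mul, hcomm' c hc _ hb2]) (c₂ _ hb2) (αs t ht)]
    exact (sup_le g₁ g₂) (htop hb)
  -- scale the intertwiner
  have hpos : (s * s)⁻¹ ∈ T₀ := T₀.inv_mem hs2
  obtain ⟨c, hc⟩ := S.scalar (x := U * U * τ₀ (s * s)⁻¹)
    (mul_mem_sp S.comm S.idem (mul_mem_sp S.comm S.idem hUs hUs) (τ₀s _ hpos)) fun b hb => by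
      have hb' := S.binv _ (Or.inl (hT₀ hpos)) b hb
      symm
      calc U * U * τ₀ (s * s)⁻¹ * o b = U * (U * o (act (s * s)⁻¹ b)) * τ₀ (s * s)⁻¹ := by
            rw [mul_assoc (U * U), hi₀ _ hpos b hb]; simp only [mul_assoc]
        _ = (U * o (act s (act (s * s)⁻¹ b))) * (U * τ₀ (s * s)⁻¹) := by
            rw [hUi _ hb']; simp only [mul_assoc]
        _ = o b * (U * U * τ₀ (s * s)⁻¹) := by
            rw [hUi _ (S.binv s (Or.inl hs) _ hb')]
            simp [map_mul, MulAut.mul_apply, mul_assoc]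
  have hc0 : c ≠ 0 := by
    rintro rfl
    rw [zero_smul] at hc
    have h1 := congrArg (fun x => x * τ₀ (s * s)) hc
    simp only [zero_mul, mul_assoc, ← τ₀m _ hpos _ hs2, inv_mul_cancel, τ₀1] at h1
    rw [mul_idem S.idem hUs] at h1
    have h2 := congrArg (fun x => V * (V * x)) h1
    simp only [mul_zero, ← mul_assoc V V, ← mul_assoc] at h2
    rw [mul_assoc V V U, hVU, mul_idem S.idem hVs, hVU] at h2
    exact S.ne h2
  obtain ⟨r, hr⟩ := IsAlgClosed.exists_pow_nat_eq (c⁻¹) (n := 2) (by norm_num)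
  set W := r • U with hW
  have hWs : W ∈ sp B f := Submodule.smul_mem _ _ hUs
  have hWW : W * W = τ₀ (s * s) := by
    have h1 := congrArg (fun x => x * τ₀ (s * s)) hc
    simp only [mul_assoc, ← τ₀m _ hpos _ hs2, inv_mul_cancel, τ₀1, smul_mul_assoc] at h1
    rw [mul_idem S.idem hUs, idem_mul S.comm S.idem (τ₀s _ hs2)] at h1
    rw [hW, smul_mul_smul_comm, h1, smul_smul, ← pow_two, hr, inv_mul_cancel₀ hc0, one_smul]
  have hWt : ∀ t ∈ T₀, W * τ₀ t = τ₀ (s * t * s⁻¹) * W := fun t ht => by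
    rw [hW, smul_mul_assoc, mul_smul_comm, hinter _ (τ₀s t ht), hconj t ht]
  let τ : H → MonoidAlgebra ℂ A := fun t => if t ∈ T₀ then τ₀ t else τ₀ (t * s⁻¹) * W
  have hτin : ∀ t ∈ T₀, τ t = τ₀ t := fun t ht => if_pos ht
  have hτout : ∀ t ∈ T₀, τ (t * s) = τ₀ t * W := fun t ht => by
    have hn : t * s ∉ T₀ := fun h => hs₀ (by simpa using T₀.mul_mem (T₀.inv_mem ht) h)
    simp [τ, hn]
  have hsplit : ∀ t ∈ T, (t ∈ T₀) ∨ ∃ u ∈ T₀, t = u * s := fun t ht =>
    (hcov t ht).imp id fun h => ⟨_, h, by simp⟩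
  refine ⟨τ, by rw [hτin 1 T₀.one_mem, τ₀1], fun t ht u hu => ?_, fun t ht => ?_,
    fun t ht b hb => ?_⟩
  · rcases hsplit t ht with ht' | ⟨t', ht', rfl⟩ <;> rcases hsplit u hu with hu' | ⟨u', hu', rfl⟩
    · rw [hτin _ (T₀.mul_mem ht' hu'), hτin _ ht', hτin _ hu', τ₀m t ht' u hu']
    · rw [← mul_assoc, hτout _ (T₀.mul_mem ht' hu'), hτin _ ht', hτout _ hu',
        τ₀m t ht' u' hu', mul_assoc]
    · rw [show t' * s * u = (t' * (s * u * s⁻¹)) * s by simp [mul_assoc],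
        hτout _ (T₀.mul_mem ht' (hsn u hu')), hτout _ ht', hτin _ hu',
        τ₀m t' ht' _ (hsn u hu'), mul_assoc _ W, hWt u hu', mul_assoc]
    · rw [show t' * s * (u' * s) = (t' * (s * u' * s⁻¹)) * (s * s) by simp [mul_assoc],
        hτin _ (T₀.mul_mem (T₀.mul_mem ht' (hsn u' hu')) hs2), hτout _ ht', hτout _ hu',
        τ₀m _ (T₀.mul_mem ht' (hsn u' hu')) _ hs2, τ₀m t' ht' _ (hsn u' hu'), ← hWW,
        mul_assoc (τ₀ t') W, ← mul_assoc W (τ₀ u'), hWt u' hu']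
      simp only [mul_assoc]
  · rcases hsplit t ht with h | ⟨u, hu, rfl⟩
    · rw [hτin _ h]; exact τ₀s t h
    · rw [hτout _ hu]; exact mul_mem_sp S.comm S.idem (τ₀s u hu) hWs
  · rcases hsplit t ht with h | ⟨u, hu, rfl⟩
    · rw [hτin _ h]; exact hi₀ t h b hb
    · rw [hτout _ hu, mul_assoc, hW, smul_mul_assoc, hUi b hb, ← mul_smul_comm,
        ← mul_assoc, hi₀ u hu _ (S.binv s (Or.inl hs) b hb), mul_assoc, map_mul act]
      rfl

end Sys

end CfsgLib.OddExtend
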