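import Cfsg.Agent.Lib.PGroup.OddExtend.Isotropic
import Cfsg.Agent.Lib.PGroup.OddExtend.Wreath
import Cfsg.Agent.Lib.PGroup.OddExtend.Cyclic
import Cfsg.Agent.Lib.FT.NoMinSimple

/-!
# Implementations exist

An odd group `K` without fixed points on `B/N`, normalised by the `2`-group `T`, forces the action
of `T` on `B` to be implemented by a homomorphism into the span of `B f`.
-/

set_option autoImplicit false
set_option maxHeartbeats 1000000

namespace CfsgLib.OddExtend

open scoped commutatorElement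

universe u v

variable {A : Type u} [Group A] [Finite A] {H : Type v} [Group H] [Finite H]
  {act : H →* MulAut A} {z : A}

theorem Sys.impl {T K : Subgroup H} {B N : Subgroup A} {ε : A → ℂ} {f : MonoidAlgebra ℂ A}
    (S : Sys act z T K B N ε f) : Impl act T B f := by
  suffices h : ∀ n (T K : Subgroup H) (B N : Subgroup A) (ε : A → ℂ) (f : MonoidAlgebra ℂ A),
      Nat.card B * Nat.card K ≤ n → Sys act z T K B N ε f → Impl act T B f from
    h _ T K B N ε f le_rfl S
  clear S T K B N ε f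
  intro n
  induction n using Nat.strong_induction_on with
  | _ n ih =>
  intro T K B N ε f hn S
  have hrec : ∀ (T' K' : Subgroup H) (B' N' : Subgroup A) (ε' : A → ℂ) (f' : MonoidAlgebra ℂ A),
      Nat.card B' * Nat.card K' < Nat.card B * Nat.card K → Sys act z T' K' B' N' ε' f' →
      Impl act T' B' f' := fun T' K' B' N' ε' f' hlt S' =>
    ih _ (hlt.trans_le hn) T' K' B' N' ε' f' le_rfl S'
  have hsmall : ∀ B' : Subgroup A, B' < B → Nat.card B' * Nat.card K < Nat.card B * Nat.card K :=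
    fun B' hB' => Nat.mul_lt_mul_of_pos_right (Set.ncard_lt_ncard hB') Nat.card_pos
  by_cases hBN : B ≤ N
  · exact S.impl_trivial hBN
  have hC : ∀ D : Subgroup A, N < D → D ≤ B →
      B ⊓ Subgroup.centralizer (D : Set A) < B := by
    intro D hD hDB
    refine lt_of_le_of_ne inf_le_left fun he => hD.not_ge fun d hd => ?_
    refine S.nondeg d (hDB hd) fun c hc => ?_
    exact Subgroup.mem_centralizer_iff.1 (he.ge hc).2 d hd
  by_cases hA : ∃ D : Subgroup A, N < D ∧ D ≤ B ∧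
      (∀ h : H, h ∈ T ∨ h ∈ K → ∀ b ∈ D, act h b ∈ D) ∧ ∀ a ∈ D, ∀ b ∈ D, a * b = b * a
  · obtain ⟨D, hND, hDB, hD, hab⟩ := hA
    obtain ⟨χ, hχ, hinv⟩ := S.exists_character hND.le hDB hD hab
    exact S.impl_induced hND.le hDB hab χ hχ
      (hrec _ _ _ _ _ _ (hsmall _ (hC D hND hDB))
        (S.isotropic_sys hND.le hDB hD hab χ hχ hinv))
  by_cases hB : ∃ D : Subgroup A, N < D ∧ D < B ∧
      (∀ h : H, h ∈ T ∨ h ∈ K → ∀ b ∈ D, act h b ∈ D)
  · obtain ⟨D, hND, hDB, hD⟩ := hB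
    have hc : ∀ b ∈ D, (∀ c ∈ D, b * c = c * b) → b ∈ N := by
      intro b hb hbc
      by_contra hbN
      let Z : Subgroup A := D ⊓ Subgroup.centralizer (D : Set A)
      refine hA ⟨Z, lt_of_le_of_ne ?_ ?_, inf_le_left.trans hDB.le, ?_, ?_⟩
      · exact fun x hx => ⟨hND.le hx, Subgroup.mem_centralizer_iff.2 fun c hc =>
          (S.n_central hx (hDB.le hc)).symm⟩
      · exact fun he => hbN (he.symm ▸ (show b ∈ Z from
          ⟨hb, Subgroup.mem_centralizer_iff.2 fun c hc => (hbc c hc).symm⟩))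
      · intro h hh x hx
        exact ⟨hD h hh x hx.1, (S.cent_inv hD hh ⟨hDB.le hx.1, hx.2⟩).2⟩
      · intro x hx y hy
        exact (Subgroup.mem_centralizer_iff.1 hx.2 y hy.1).symm
    exact S.impl_split hND.le hDB.le hD hc
      (hrec _ _ _ _ _ _ (hsmall _ hDB) (S.sub hND.le hDB.le hD hc))
      (hrec _ _ _ _ _ _ (hsmall _ (hC D hND hDB.le))
        (S.sub (S.le_cent hDB.le) inf_le_left (fun h hh b hb => S.cent_inv hD hh hb)
          (S.cent_nondeg hND.le hDB.le hc)))
  have hirr : ∀ D : Subgroup A, N ≤ D → D ≤ B →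
      (∀ h : H, h ∈ T ∨ h ∈ K → ∀ b ∈ D, act h b ∈ D) → D = N ∨ D = B := by
    intro D hND hDB hD
    by_contra hcon
    push Not at hcon
    exact hB ⟨D, lt_of_le_of_ne hND hcon.1.symm, lt_of_le_of_ne hDB hcon.2, hD⟩
  by_cases hR : ∃ R : Subgroup H, R ≤ K ∧ R ≠ K ∧ (∀ k ∈ K, ∀ x ∈ R, k * x * k⁻¹ ∈ R) ∧
      (∀ t ∈ T, ∀ x ∈ R, t * x * t⁻¹ ∈ R) ∧ ¬ Triv act B N R
  · obtain ⟨R, hRK, hRne, hRk, hRt, hnt⟩ := hR
    have hF : fixMod act B N R = N := by
      have hcjT : ∀ t ∈ T, cj t R = R := fun t ht => le_antisymm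
        (fun x hx => by simpa [mul_assoc] using hRt t ht _ (mem_cj.1 hx))
        (fun x hx => mem_cj.2 (by simpa using hRt t⁻¹ (T.inv_mem ht) x hx))
      have hinvF : ∀ h : H, h ∈ T ∨ h ∈ K → ∀ b ∈ fixMod act B N R, act h b ∈ fixMod act B N R := by
        intro h hh b hb
        rcases hh with hh | hh
        · have := S.act_mem_fixMod (Or.inl hh) hRK (S.cj_le hh hRK) hb
          rwa [hcjT h hh] at this
        · exact S.k_mem_fixMod hRK hRk hh hb
      rcases hirr _ (S.n_le_fixMod hRK) (S.fixMod_le hRK) hinvF with e | e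
      · exact e
      · exact absurd (fun u hu b hb => ((S.mem_fixMod hRK).1 (e.ge hb)).2 u hu) hnt
    refine hrec T R B N ε f (Nat.mul_lt_mul_of_pos_left ?_ Nat.card_pos) ?_
    · exact Set.ncard_lt_ncard (SetLike.coe_ssubset_coe.2 (lt_of_le_of_ne hRK hRne))
    · exact
        { S with
          odd := S.odd.of_dvd_nat (Subgroup.card_dvd_of_le hRK)
          norm := hRt
          fsig := fun x hx => S.fsig x (hx.imp id (fun a => hRK a))
          binv := fun x hx => S.binv x (hx.imp id (fun a => hRK a))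
          ninv := fun x hx => S.ninv x (hx.imp id (fun a => hRK a))
          fix := fun b hb h => hF.le ((S.mem_fixMod hRK).2 ⟨hb, h⟩) }
  have hmin : ∀ R : Subgroup H, R ≤ K → R ≠ K → (∀ k ∈ K, ∀ x ∈ R, k * x * k⁻¹ ∈ R) →
      (∀ t ∈ T, ∀ x ∈ R, t * x * t⁻¹ ∈ R) → Triv act B N R := by
    intro R h1 h2 h3 h4
    by_contra h5
    exact hR ⟨R, h1, h2, h3, h4, h5⟩
  -- the derived subgroup
  have hKbot : K ≠ ⊥ := by
    rintro rfl
    exact hBN fun b hb => S.fix b hb fun k hk => by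
      rw [Subgroup.mem_bot] at hk
      simp [hk]
  haveI : Group.IsSolvable K := CfsgLib.FT.isSolvable_of_odd K S.odd
  set D₀ : Subgroup H := ⁅K, K⁆ with hD₀
  have hD₀K : D₀ < K := by
    haveI : Nontrivial K := (Subgroup.nontrivial_iff_ne_bot K).2 hKbot
    have h := Subgroup.map_subtype_lt_map_subtype.2
      (Group.IsSolvable.commutator_lt_top_of_nontrivial K)
    rw [← MonoidHom.range_eq_map, K.range_subtype, Subgroup.map_subtype_commutator] at h
    exact h
  have hD₀com : ∀ k ∈ K, ∀ l ∈ K, k * l * k⁻¹ * l⁻¹ ∈ D₀ := fun k hk l hl =>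
    Subgroup.commutator_mem_commutator hk hl
  have hnormD : ∀ h : H, (∀ x ∈ K, h * x * h⁻¹ ∈ K) → ∀ x ∈ D₀, h * x * h⁻¹ ∈ D₀ := by
    intro h hh x hx
    have : D₀ ≤ D₀.comap (MulAut.conj h).toMonoidHom := by
      refine Subgroup.commutator_le.2 fun a ha b hb => ?_
      show MulAut.conj h ⁅a, b⁆ ∈ D₀
      rw [map_commutatorElement]
      exact Subgroup.commutator_mem_commutator (hh a ha) (hh b hb)
    exact this hx
  have hD₀t : Triv act B N D₀ := hmin D₀ hD₀K.le hD₀K.ne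
    (fun k hk => hnormD k fun x hx => K.mul_mem (K.mul_mem hk hx) (K.inv_mem hk))
    (fun t ht => hnormD t (S.norm t ht))
  -- a maximal subgroup with fixed points
  obtain ⟨U, ⟨hUD, hUK, hUne, hUF⟩, hUmax⟩ := Set.Finite.exists_maximalFor id
    {U : Subgroup H | D₀ ≤ U ∧ U ≤ K ∧ U ≠ K ∧ fixMod act B N U ≠ N} (Set.toFinite _)
    ⟨D₀, le_rfl, hD₀K.le, hD₀K.ne, by
      rw [S.fixMod_of_triv hD₀K.le hD₀t]; exact fun h => hBN h.le⟩
  have hmax : ∀ V : Subgroup H, U < V → V ≤ K → fixMod act B N V = N := by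
    intro V hUV hVK
    by_cases hVe : V = K
    · rw [hVe, S.fixMod_top]
    · by_contra hne
      exact hUV.not_ge (hUmax ⟨hUD.trans hUV.le, hVK, hVe, hne⟩ hUV.le)
  have hUn : ∀ k ∈ K, ∀ u ∈ U, k * u * k⁻¹ ∈ U := fun k hk u hu => by
    have := U.mul_mem (hUD (hD₀com k hk u (hUK hu))) hu
    simpa [mul_assoc] using this
  by_cases hUT : ∀ t ∈ T, cj t U = U
  · have hUT' : ∀ t ∈ T, ∀ u ∈ U, t * u * t⁻¹ ∈ U := fun t ht u hu => by
      rw [← hUT t ht]
      exact ⟨u, hu, rfl⟩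
    exact S.impl_cyclic hBN hirr hUK hUne (fun k hk l hl => hUD (hD₀com k hk l hl)) hUT'
      (hmin U hUK hUne hUn hUT') hmax hmin
  · have hmax' : ∀ t ∈ T, cj t U ≠ U → fixMod act B N (U ⊔ cj t U) = N := by
      intro t ht hne
      refine hmax _ (lt_of_le_of_ne le_sup_left fun e => hne ?_) (sup_le hUK (S.cj_le ht hUK))
      have hle : cj t U ≤ U := le_sup_right.trans e.ge
      refine Subgroup.eq_of_le_of_card_ge hle (le_of_eq ?_)
      exact (Nat.card_congr (Subgroup.equivMapOfInjective U _ (MulAut.conj t).injective).toEquiv)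
    obtain ⟨T₀, s, B₁, hT₀, hs, hs₀, hcov, hs2, hsn, hN1, hlt, hinv, hcomm, htop⟩ :=
      S.exists_blocks hirr hUK hUn hUF hmax' hUT
    have S₁ : Sys act z T₀ K B₁ N ε f := (S.restrict hT₀).sub hN1 hlt.le hinv fun b hb hbc =>
      S.nondeg b (hlt.le hb) fun c hc => by
        have : B₁ ⊔ B₁.map (act s).toMonoidHom ≤ Subgroup.centralizer {b} := by
          refine sup_le (fun x hx => Subgroup.mem_centralizer_singleton_iff.2 (hbc x hx).symm) ?_
          rintro _ ⟨x, hx, rfl⟩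
          exact Subgroup.mem_centralizer_singleton_iff.2 (hcomm b hb x hx).symm
        exact (Subgroup.mem_centralizer_singleton_iff.1 (this (htop hc))).symm
    exact S.impl_wreath hT₀ hs hs₀ hcov hs2 hsn hlt.le (fun t ht => hinv t (Or.inl ht)) hcomm htop
      (hrec _ _ _ _ _ _ (hsmall _ hlt) S₁)

end CfsgLib.OddExtend
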