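import Cfsg.Agent.Lib.PGroup.OddExtend.Group

/-!
# Reduction steps: twisted averages, products and isotropic subgroups
-/

set_option autoImplicit false
set_option maxHeartbeats 1000000

namespace CfsgLib.OddExtend

universe u v

variable {A : Type u} [Group A] [Finite A] {H : Type v} [Group H] [Finite H]
  {act : H →* MulAut A} {z : A}

namespace Sys

variable {T K : Subgroup H} {B N : Subgroup A} {ε : A → ℂ} {f : MonoidAlgebra ℂ A}

theorem eps_ne (S : Sys act z T K B N ε f) {a : A} (ha : a ∈ N) : ε a ≠ 0 := by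
  intro h
  rcases S.eps_sq ha with h1 | h1 <;> simp [h] at h1

/-- The twisted average attached to `h` and `X`. -/
noncomputable def twist (act : H →* MulAut A) (h : H) (B : Subgroup A) (f : MonoidAlgebra ℂ A)
    (X : A) : MonoidAlgebra ℂ A :=
  ∑ᶠ w : B, o (act h w) * o X * o ((w : A)⁻¹) * f

theorem twist_eq (act : H →* MulAut A) (h : H) (B : Subgroup A) [Fintype B]
    (f : MonoidAlgebra ℂ A) (X : A) :
    twist act h B f X = ∑ w : B, o (act h w) * o X * o ((w : A)⁻¹) * f :=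
  finsum_eq_sum_of_fintype _

theorem twist_mem (S : Sys act z T K B N ε f) {h : H} (hh : h ∈ T ∨ h ∈ K) {X : A} (hX : X ∈ B) :
    twist act h B f X ∈ sp B f := by
  haveI := Fintype.ofFinite B
  rw [twist_eq]
  refine Submodule.sum_mem _ fun w _ => ?_
  rw [← o_mul, ← o_mul]
  exact mem_sp (B.mul_mem (B.mul_mem (S.binv h hh w w.2) hX) (B.inv_mem w.2))

theorem twist_intertwine (S : Sys act z T K B N ε f) (h : H) (X : A) {b : A} (hb : b ∈ B) :
    twist act h B f X * o b = o (act h b) * twist act h B f X := by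
  haveI := Fintype.ofFinite B
  rw [twist_eq, Finset.sum_mul, Finset.mul_sum]
  refine (Fintype.sum_equiv (Equiv.mulLeft (⟨b, hb⟩ : B)) _ _ fun w => ?_).symm
  show o (act h b) * (o (act h w) * o X * o ((w : A)⁻¹) * f) =
    o (act h ((⟨b, hb⟩ : B) * w : B)) * o X * o ((((⟨b, hb⟩ : B) * w : B) : A)⁻¹) * f * o b
  rw [Subgroup.coe_mul, map_mul, mul_inv_rev, o_mul, o_mul]
  simp only [mul_assoc]
  rw [← S.comm b hb, ← mul_assoc (o b⁻¹), ← o_mul, inv_mul_cancel, o_one, one_mul]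

theorem sum_twist (S : Sys act z T K B N ε f) {h : H} (hh : h ∈ T ∨ h ∈ K) [Fintype B] :
    ∑ X : B, twist act h B f X * o ((X : A)⁻¹) = ((Nat.card B : ℂ) * Nat.card N) • f := by
  classical
  simp only [twist_eq, Finset.sum_mul]
  rw [Finset.sum_comm]
  have key : ∀ w : B, ∑ X : B, o (act h w) * o (X : A) * o ((w : A)⁻¹) * f * o ((X : A)⁻¹) =
      if (w : A) ∈ N then (Nat.card B : ℂ) • f else 0 := by
    intro w
    have e : ∑ X : B, o (act h w) * o (X : A) * o ((w : A)⁻¹) * f * o ((X : A)⁻¹) =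
        o (act h w) * avg B (o (w : A)⁻¹ * f) := by
      rw [avg_eq, Finset.mul_sum]
      exact Finset.sum_congr rfl fun X _ => by simp only [mul_assoc]
    rw [e]
    split_ifs with hw
    · rw [S.avg_of_mem (N.inv_mem hw), mul_smul_comm, S.eps _ (S.ninv h hh _ hw),
        S.eps_inv hh hw, smul_smul, mul_assoc, ← S.eps_mul (N.inv_mem hw) hw, inv_mul_cancel,
        S.eps_one, mul_one]
    · rw [S.avg_of_not_mem (B.inv_mem w.2) (fun hn => hw (by simpa using N.inv_mem hn)), mul_zero]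
  rw [Finset.sum_congr rfl (fun w _ => key w), Finset.sum_ite, Finset.sum_const_zero, add_zero,
    Finset.sum_const, ← Nat.cast_smul_eq_nsmul ℂ, smul_smul, mul_comm (Nat.card B : ℂ)]
  congr 2
  haveI := Fintype.ofFinite N
  rw [Nat.cast_inj, Nat.card_eq_fintype_card (α := N)]
  refine (Finset.card_bij (fun (a : N) _ => (⟨a, S.le a.2⟩ : B)) ?_ ?_ ?_).symm
  · intro a _; simp
  · intro a _ b _ hab; exact Subtype.ext (congrArg (fun x : B => (x : A)) hab)
  · intro w hw
    exact ⟨⟨w, (Finset.mem_filter.1 hw).2⟩, Finset.mem_univ _, rfl⟩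

/-- Automorphisms of the span of `B f` are inner. -/
theorem exists_intertwiner (S : Sys act z T K B N ε f) {h : H} (hh : h ∈ T ∨ h ∈ K) :
    ∃ U ∈ sp B f, ∃ V ∈ sp B f, V * U = f ∧ U * V = f ∧
      ∀ b ∈ B, U * o b = o (act h b) * U := by
  haveI := Fintype.ofFinite B
  have hh' : h⁻¹ ∈ T ∨ h⁻¹ ∈ K := hh.imp (fun a => T.inv_mem a) (fun a => K.inv_mem a)
  have hc0 : ((Nat.card B : ℂ) * Nat.card N) ≠ 0 :=
    mul_ne_zero (Nat.cast_ne_zero.2 Nat.card_pos.ne') (Nat.cast_ne_zero.2 Nat.card_pos.ne')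
  obtain ⟨X, hX⟩ : ∃ X : B, twist act h B f X ≠ 0 := by
    by_contra hz
    push Not at hz
    have := S.sum_twist hh
    simp only [hz, zero_mul, Finset.sum_const_zero] at this
    exact S.ne ((smul_eq_zero.1 this.symm).resolve_left hc0)
  set U := twist act h B f X with hU
  have hUm : U ∈ sp B f := S.twist_mem hh X.2
  have hUi : ∀ b ∈ B, U * o b = o (act h b) * U := fun b hb => S.twist_intertwine h X hb
  obtain ⟨Y, hY⟩ : ∃ Y : B, twist act h⁻¹ B f Y * U ≠ 0 := by
    by_contra hz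
    push Not at hz
    have h1 := congrArg (fun x => x * U) (S.sum_twist hh')
    simp only [Finset.sum_mul, smul_mul_assoc, idem_mul S.comm S.idem hUm] at h1
    rw [Finset.sum_eq_zero] at h1
    · exact hX ((smul_eq_zero.1 h1.symm).resolve_left hc0)
    · intro Y _
      have h2 : o ((Y : A)⁻¹) * U = U * o (act h⁻¹ (Y : A)⁻¹) := by
        rw [hUi _ (S.binv _ hh' _ (B.inv_mem Y.2)), map_inv act h, MulAut.apply_inv_self]
      rw [mul_assoc, h2, ← mul_assoc, hz, zero_mul]
  set V := twist act h⁻¹ B f Y with hV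
  have hVm : V ∈ sp B f := S.twist_mem hh' Y.2
  obtain ⟨c, hc⟩ := S.scalar (mul_mem_sp S.comm S.idem hVm hUm) fun b hb => by
    have h3 : V * o (act h b) = o b * V := by
      rw [S.twist_intertwine h⁻¹ Y (S.binv h hh b hb), map_inv act h, MulAut.inv_apply_self]
    rw [← mul_assoc, ← h3, mul_assoc, ← hUi b hb, mul_assoc]
  have hc' : c ≠ 0 := by
    rintro rfl
    exact hY (by rw [hc, zero_smul])
  obtain ⟨d, hd⟩ := S.scalar (mul_mem_sp S.comm S.idem hUm hVm) fun b hb => by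
    have hb' := S.binv h⁻¹ hh' b hb
    have e1 : o b * U = U * o (act h⁻¹ b) := by
      rw [hUi _ hb', map_inv act h, MulAut.apply_inv_self]
    have e2 : V * o b = o (act h⁻¹ b) * V := S.twist_intertwine h⁻¹ Y hb
    rw [← mul_assoc, e1, mul_assoc, ← e2, mul_assoc]
  have hdc : d = c := by
    have h4 : U * (V * U) = (U * V) * U := (mul_assoc _ _ _).symm
    rw [hc, hd, mul_smul_comm, smul_mul_assoc, mul_idem S.idem hUm, idem_mul S.comm S.idem hUm]
      at h4
    exact (smul_left_injective ℂ hX h4).symm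
  refine ⟨U, hUm, c⁻¹ • V, Submodule.smul_mem _ _ hVm, ?_, ?_, hUi⟩
  · rw [smul_mul_assoc, hc, smul_smul, inv_mul_cancel₀ hc', one_smul]
  · rw [mul_smul_comm, hd, hdc, smul_smul, inv_mul_cancel₀ hc', one_smul]

/-- Nothing to implement when `B = N`. -/
theorem impl_trivial (S : Sys act z T K B N ε f) (hBN : B ≤ N) : Impl act T B f := by
  refine ⟨fun _ => f, rfl, fun _ _ _ _ => S.idem.symm, fun _ _ => self_mem_sp, fun t ht b hb => ?_⟩
  rw [← S.comm b hb, S.eps b (hBN hb), S.eps _ (S.ninv t (Or.inl ht) b (hBN hb)),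
    S.eps_inv (Or.inl ht) (hBN hb)]

/-- The system on an invariant subgroup with centre `N`. -/
theorem sub (S : Sys act z T K B N ε f) {D : Subgroup A} (hND : N ≤ D) (hDB : D ≤ B)
    (hD : ∀ h : H, h ∈ T ∨ h ∈ K → ∀ b ∈ D, act h b ∈ D)
    (hc : ∀ b ∈ D, (∀ c ∈ D, b * c = c * b) → b ∈ N) : Sys act z T K D N ε f :=
  { S with
    comm := fun b hb => S.comm b (hDB hb)
    le := hND
    nondeg := hc
    binv := hD
    fix := fun b hb h => S.fix b (hDB hb) h }

theorem cent_nondeg (S : Sys act z T K B N ε f) {D : Subgroup A} (hND : N ≤ D) (hDB : D ≤ B)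
    (hc : ∀ b ∈ D, (∀ c ∈ D, b * c = c * b) → b ∈ N) :
    ∀ b ∈ B ⊓ Subgroup.centralizer (D : Set A),
      (∀ c ∈ B ⊓ Subgroup.centralizer (D : Set A), b * c = c * b) → b ∈ N := fun b hb h => by
  have hbD : b ∈ D := (S.double_cent hND hDB).le
    ⟨hb.1, Subgroup.mem_centralizer_iff.2 fun c hc' => (h c hc').symm⟩
  exact hc b hbD fun c hc' => (Subgroup.mem_centralizer_iff.1 hb.2 c hc').symm

/-- Two commuting pieces. -/
theorem impl_mul (S : Sys act z T K B N ε f) {B₁ B₂ : Subgroup A} (h₁ : B₁ ≤ B) (h₂ : B₂ ≤ B)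
    (hsup : B ≤ B₁ ⊔ B₂) (hcomm : ∀ a ∈ B₁, ∀ b ∈ B₂, a * b = b * a)
    (hi₁ : ∀ t ∈ T, ∀ b ∈ B₁, act t b ∈ B₁)
    (i₁ : Impl act T B₁ f) (i₂ : Impl act T B₂ f) : Impl act T B f := by
  obtain ⟨α, α1, αm, αs, αi⟩ := i₁
  obtain ⟨β, β1, βm, βs, βi⟩ := i₂
  have c₁ : ∀ b ∈ B₁, o b * f = f * o b := fun b hb => S.comm b (h₁ hb)
  have c₂ : ∀ b ∈ B₂, o b * f = f * o b := fun b hb => S.comm b (h₂ hb)
  refine ⟨fun t => α t * β t, by simp only [α1, β1, S.idem], fun t ht u hu => ?_,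
    fun t ht => mul_mem_sp S.comm S.idem (sp_mono h₁ (αs t ht)) (sp_mono h₂ (βs t ht)),
    fun t ht => ?_⟩
  · simp only [αm t ht u hu, βm t ht u hu]
    rw [mul_assoc (α t), ← mul_assoc (α u), sp_commute c₁ c₂ hcomm (αs u hu) (βs t ht),
      mul_assoc (β t), ← mul_assoc (α t)]
  · let G₀ : Subgroup A :=
      { carrier := {b | α t * β t * o b = o (act t b) * (α t * β t)}
        one_mem' := by simp [o_one]
        mul_mem' := fun {a b} ha hb => by
          simp only [Set.mem_setOf_eq] at ha hb ⊢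
          rw [map_mul, o_mul, o_mul, ← mul_assoc, ha, mul_assoc, hb, ← mul_assoc]
        inv_mem' := fun {a} ha => by
          simp only [Set.mem_setOf_eq] at ha ⊢
          have e : o (act t a⁻¹) * (α t * β t * o a) * o a⁻¹ =
              o (act t a⁻¹) * (o (act t a) * (α t * β t)) * o a⁻¹ := by rw [ha]
          rw [← mul_assoc (o (act t a⁻¹)) (o (act t a)), ← o_mul, ← map_mul, inv_mul_cancel,
            map_one, o_one, one_mul] at e
          rw [← e]
          simp only [mul_assoc]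
          rw [← o_mul, mul_inv_cancel, o_one, mul_one] }
    have g₁ : B₁ ≤ G₀ := fun b hb => by
      show α t * β t * o b = o (act t b) * (α t * β t)
      rw [mul_assoc, (commute_sp (y := o b) (fun c hc => by rw [← o_mul, ← o_mul, hcomm b hb c hc])
        (c₁ b hb) (βs t ht)).symm, ← mul_assoc, αi t ht b hb, mul_assoc]
    have g₂ : B₂ ≤ G₀ := fun b hb => by
      show α t * β t * o b = o (act t b) * (α t * β t)
      rw [mul_assoc, βi t ht b hb]
      have hb' : ∀ c ∈ B₁, o (act t b) * o c = o c * o (act t b) := fun c hc => by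
        have hc' := hi₁ t⁻¹ (T.inv_mem ht) c hc
        have h3 := congrArg (act t) (hcomm _ hc' b hb)
        rw [map_mul, map_mul, map_inv act t, MulAut.apply_inv_self] at h3
        rw [← o_mul, ← o_mul, h3]
      rw [← mul_assoc, ← mul_assoc, commute_sp hb'
        (S.comm _ (S.binv t (Or.inl ht) b (h₂ hb))) (αs t ht)]
    intro b hb
    exact (sup_le g₁ g₂) (hsup hb)

/-- An invariant subgroup with centre `N` splits off. -/
theorem impl_split (S : Sys act z T K B N ε f) {D : Subgroup A} (hND : N ≤ D) (hDB : D ≤ B)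
    (hD : ∀ h : H, h ∈ T ∨ h ∈ K → ∀ b ∈ D, act h b ∈ D)
    (hc : ∀ b ∈ D, (∀ c ∈ D, b * c = c * b) → b ∈ N)
    (i₁ : Impl act T D f) (i₂ : Impl act T (B ⊓ Subgroup.centralizer (D : Set A)) f) :
    Impl act T B f := by
  set C := B ⊓ Subgroup.centralizer (D : Set A) with hC
  refine S.impl_mul hDB (inf_le_left : C ≤ B) ?_ ?_ (fun t ht => hD t (Or.inl ht)) i₁ i₂
  · have hE : D ⊔ C ≤ B := sup_le hDB inf_le_left
    have h1 := S.card_cent (hND.trans le_sup_left) hE
    have h2 : B ⊓ Subgroup.centralizer ((D ⊔ C : Subgroup A) : Set A) ≤ N := fun x hx => by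
      have hxC : x ∈ C :=
        ⟨hx.1, Subgroup.centralizer_le (SetLike.coe_subset_coe.2 le_sup_left) hx.2⟩
      refine S.cent_nondeg hND hDB hc x hxC fun c hc' => ?_
      exact (Subgroup.mem_centralizer_iff.1 hx.2 c (Subgroup.mem_sup_right hc')).symm
    have h3 : Nat.card ↥(B ⊓ Subgroup.centralizer ((D ⊔ C : Subgroup A) : Set A)) ≤ Nat.card N :=
      Subgroup.card_le_of_le h2
    have h4 : Nat.card B * Nat.card N ≤ Nat.card ↥(D ⊔ C) * Nat.card N :=
      h1 ▸ Nat.mul_le_mul_left _ h3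
    exact (Subgroup.eq_of_le_of_card_ge hE (Nat.le_of_mul_le_mul_right h4 Nat.card_pos)).ge
  · exact fun a ha b hb => Subgroup.mem_centralizer_iff.1 hb.2 a ha

section Isotropic

variable {D : Subgroup A}

open Classical in
/-- An invariant abelian subgroup carries an invariant extension of `ε`. -/
theorem exists_character (S : Sys act z T K B N ε f) (hND : N ≤ D) (hDB : D ≤ B)
    (hD : ∀ h : H, h ∈ T ∨ h ∈ K → ∀ b ∈ D, act h b ∈ D)
    (hab : ∀ a ∈ D, ∀ b ∈ D, a * b = b * a) :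
    ∃ χ : D →* ℂˣ, (∀ a : D, (a : A) ∈ N → (χ a : ℂ) = ε a) ∧
      ∀ h (hh : h ∈ T ∨ h ∈ K), ∀ a : D, χ ⟨act h a, hD h hh a a.2⟩ = χ a := by
  haveI := Fintype.ofFinite K
  let : CommGroup D :=
    { (inferInstance : Group D) with mul_comm := fun a b => Subtype.ext (hab a a.2 b b.2) }
  let e₀ : N.subgroupOf D →* ℂˣ :=
    { toFun := fun a => Units.mk0 (ε ((a : D) : A)) (S.eps_ne (Subgroup.mem_subgroupOf.1 a.2))
      map_one' := Units.ext S.eps_one
      map_mul' := fun a b => Units.ext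
        (S.eps_mul (Subgroup.mem_subgroupOf.1 a.2) (Subgroup.mem_subgroupOf.1 b.2)) }
  haveI : NeZero ((Monoid.exponent D : ℕ) : ℂ) :=
    ⟨Nat.cast_ne_zero.2 (Monoid.exponent_ne_zero_of_finite)⟩
  obtain ⟨μ, hμ⟩ := MonoidHom.domRestrict_surjective (G := D) ℂ (N.subgroupOf D) e₀
  have hμN : ∀ a : D, (a : A) ∈ N → (μ a : ℂ) = ε a := fun a ha => by
    have := DFunLike.congr_fun hμ ⟨a, Subgroup.mem_subgroupOf.2 ha⟩
    exact congrArg Units.val this
  let ρ : K → (D →* D) := fun k =>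
    { toFun := fun d => ⟨act (k : H) d, hD k (Or.inr k.2) d d.2⟩
      map_one' := Subtype.ext (map_one _)
      map_mul' := fun x y => Subtype.ext (map_mul _ _ _) }
  obtain ⟨j, hj⟩ := S.odd
  let P : D →* ℂˣ := ∏ k : K, μ.comp (ρ k)
  let χ : D →* ℂˣ := P * (μ ^ (2 * j))⁻¹
  have hχ : ∀ a, χ a = (∏ k : K, μ (ρ k a)) * (μ a ^ (2 * j))⁻¹ := fun a => by
    simp [χ, P]
  have hsq : ∀ h (hh : h ∈ T ∨ h ∈ K) (a : D),
      (⟨act h a, hD h hh a a.2⟩ : D) ^ 2 = a ^ 2 := fun h hh a => Subtype.ext <| by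
    rw [SubgroupClass.coe_pow, SubgroupClass.coe_pow, ← map_pow]
    rcases S.ctx.sq (a : A) with e | e <;> rw [pow_two, e]
    · exact map_one _
    · exact S.ctx.zfix h
  have hext : ∀ a : D, (a : A) ∈ N → (χ a : ℂ) = ε a := fun a ha => by
    rw [hχ, Units.val_mul, Units.coe_prod, Units.val_inv_eq_inv_val, Units.val_pow_eq_pow_val,
      hμN a ha, Finset.prod_congr rfl (fun k _ => show (μ (ρ k a) : ℂ) = ε a by
        rw [hμN _ (S.ninv k (Or.inr k.2) a ha)]; exact S.eps_inv (Or.inr k.2) ha),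
      Finset.prod_const, Finset.card_univ, ← Nat.card_eq_fintype_card, hj, pow_succ]
    field_simp [pow_ne_zero _ (S.eps_ne ha)]
  have hK : ∀ k (hk : k ∈ K) (a : D), χ ⟨act k a, hD k (Or.inr hk) a a.2⟩ = χ a := by
    intro k hk a
    rw [hχ, hχ]
    congr 1
    · refine Fintype.prod_equiv (Equiv.mulRight (⟨k, hk⟩ : K)) _ _ fun x => ?_
      congr 1
      refine Subtype.ext ?_
      show act (x : H) (act k a) = act ((x : H) * k) a
      rw [map_mul]; rfl
    · rw [pow_mul, pow_mul, ← map_pow, hsq k (Or.inr hk), map_pow]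
  refine ⟨χ, hext, fun h hh a => ?_⟩
  rcases hh with ht | hk
  swap
  · exact hK h hk a
  let τ₀ : D →* D :=
    { toFun := fun d => ⟨act h d, hD h (Or.inl ht) d d.2⟩
      map_one' := Subtype.ext (map_one _)
      map_mul' := fun x y => Subtype.ext (map_mul _ _ _) }
  let ψ : D →* ℂˣ := χ.comp τ₀ * χ⁻¹
  have key : ψ a = 1 := by
    refine S.ctx.hom_eq_one K S.odd hND (fun x hx y hy => hab x (hND hx) y hy) S.zmem
      (fun r hr => hD r (Or.inr hr)) (fun r hr => S.ninv r (Or.inr hr))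
      (fun b hb => S.fix b (hDB hb)) ψ ?_ ?_ ?_ a
    · intro x hx
      have : χ (τ₀ x) = χ x := Units.ext (by
        rw [hext x hx, hext _ (S.ninv h (Or.inl ht) _ hx)]; exact S.eps_inv (Or.inl ht) hx)
      simp [ψ, this]
    · intro r hr b
      have hr' : h * r * h⁻¹ ∈ K := S.norm h ht r hr
      have : τ₀ ⟨act r b, hD r (Or.inr hr) b b.2⟩ =
          ⟨act (h * r * h⁻¹) (τ₀ b), hD _ (Or.inr hr') _ (τ₀ b).2⟩ := Subtype.ext <| by
        show act h (act r b) = act (h * r * h⁻¹) (act h b)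
        simp [map_mul, MulAut.mul_apply]
      simp only [ψ, MonoidHom.mul_apply, MonoidHom.inv_apply, MonoidHom.comp_apply, this]
      rw [hK _ hr' (τ₀ b), hK r hr b]
    · intro b
      have : χ (τ₀ b) ^ 2 = χ b ^ 2 := by
        rw [← map_pow χ (τ₀ b), ← map_pow χ b]
        exact congrArg χ (hsq h (Or.inl ht) b)
      simp only [ψ, MonoidHom.mul_apply, MonoidHom.inv_apply, MonoidHom.comp_apply]
      rw [← pow_two, mul_pow, inv_pow, this, mul_inv_cancel]
  have : χ (τ₀ a) * (χ a)⁻¹ = 1 := key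
  exact mul_inv_eq_one.1 this

end Isotropic

end Sys

end CfsgLib.OddExtend
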